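import Mathlib

/-! Certificates: the first level, the conjugation of the radical, the representatives. -/

set_option autoImplicit false
set_option maxRecDepth 100000
set_option maxHeartbeats 4000000

namespace CfsgLib.Classical.O8Three

/-- The parent, depth and conjugator of each element of the Levi unipotent. -/
def T1 : List (List (ℕ × ℕ × List ℕ)) := [
  [(0, 0, []), (1, 0, []), (487, 2, [33, 15, 33]), (1, 1, [24, 23, 24]), (1, 1, [23]), (1, 1, [25, 23, 25]), (1, 1, [25, 22, 25]), (1, 1, [22]), (1, 1, [24, 22, 24]), (1, 1, [26, 21, 26]), (1, 1, [21]), (1, 1, [27, 21, 27]), (12, 0, []), (12, 1, [25]), (12, 1, [24]), (15, 0, []), (15, 1, [24]), (15, 1, [25]), (1, 1, [27, 20, 27]), (1, 1, [20]), (1, 1, [26, 20, 26]), (584, 2, [29, 19, 29]), (582, 3, [29, 19, 29]), (583, 3, [29, 19, 29]), (661, 2, [29, 19, 29]), (662, 3, [29, 19, 29]), (660, 3, [29, 19, 29])],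
  [(6, 2, [27, 20, 27]), (15, 1, [24, 23, 24]), (12, 1, [24, 23, 24]), (10, 2, [24, 23, 24]), (42, 2, [27, 20, 27]), (39, 2, [24]), (19, 2, [25, 22, 25]), (69, 2, [27, 20, 27]), (39, 2, [26, 21, 26]), (4, 2, [26, 21, 26]), (69, 2, [24, 23, 24]), (39, 2, [26]), (12, 1, [21]), (10, 2, [23]), (42, 2, [26]), (15, 1, [20]), (39, 2, [27]), (19, 2, [24, 22, 24]), (7, 2, [27, 20, 27]), (42, 2, [24, 23, 24]), (39, 2, [24, 23, 24]), (15, 1, [25, 23, 25]), (39, 2, [25]), (10, 2, [25, 23, 25]), (12, 1, [25, 23, 25]), (19, 2, [22]), (42, 2, [25])],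
  [(6, 2, [26, 21, 26]), (12, 1, [25, 22, 25]), (15, 1, [25, 22, 25]), (19, 2, [24, 23, 24]), (39, 2, [27, 20, 27]), (69, 2, [26, 21, 26]), (10, 2, [25, 22, 25]), (66, 2, [27, 20, 27]), (69, 2, [25]), (7, 2, [26, 21, 26]), (39, 2, [25, 22, 25]), (69, 2, [26]), (12, 1, [20]), (69, 2, [27]), (19, 2, [25, 23, 25]), (15, 1, [21]), (10, 2, [22]), (66, 2, [26]), (4, 2, [27, 20, 27]), (66, 2, [25, 22, 25]), (69, 2, [25, 22, 25]), (15, 1, [24, 22, 24]), (19, 2, [23]), (66, 2, [24]), (12, 1, [24, 22, 24]), (69, 2, [24]), (10, 2, [24, 22, 24])],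
  [(1, 1, [31, 16, 31]), (1, 1, [16]), (1, 1, [30, 16, 30]), (82, 2, [24, 23, 24]), (82, 2, [23]), (82, 2, [25, 23, 25]), (82, 2, [25, 22, 25]), (82, 2, [22]), (82, 2, [24, 22, 24]), (90, 0, []), (90, 1, [27]), (90, 1, [26]), (90, 1, [28]), (91, 2, [28]), (92, 2, [28]), (90, 1, [29]), (91, 2, [29]), (92, 2, [29]), (117, 2, [25, 23, 25]), (125, 3, [25, 23, 25]), (121, 3, [25, 23, 25]), (123, 3, [25, 23, 25]), (146, 3, [24, 22, 24]), (118, 3, [25, 23, 25]), (120, 3, [25, 23, 25]), (119, 3, [25, 23, 25]), (145, 3, [24, 22, 24])],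
  [(90, 1, [24, 23, 24]), (96, 2, [24, 23, 24]), (93, 2, [24, 23, 24]), (91, 2, [24, 23, 24]), (97, 3, [24, 23, 24]), (120, 3, [24]), (92, 2, [24, 23, 24]), (123, 3, [24]), (95, 3, [24, 23, 24]), (90, 1, [23]), (117, 2, [30]), (117, 2, [31]), (117, 2, [28]), (117, 2, [27]), (121, 3, [30]), (117, 2, [29]), (121, 3, [28]), (117, 2, [26]), (90, 1, [25, 23, 25]), (126, 2, [30]), (126, 2, [31]), (96, 2, [25, 23, 25]), (120, 3, [25]), (91, 2, [25, 23, 25]), (93, 2, [25, 23, 25]), (92, 2, [25, 23, 25]), (123, 3, [25])],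
  [(90, 1, [25, 22, 25]), (93, 2, [25, 22, 25]), (96, 2, [25, 22, 25]), (92, 2, [25, 22, 25]), (147, 3, [25]), (98, 3, [25, 22, 25]), (91, 2, [25, 22, 25]), (94, 3, [25, 22, 25]), (150, 3, [25]), (90, 1, [22]), (144, 2, [30]), (144, 2, [31]), (144, 2, [28]), (118, 3, [23]), (144, 2, [26]), (144, 2, [29]), (144, 2, [27]), (119, 3, [23]), (90, 1, [24, 22, 24]), (153, 2, [30]), (153, 2, [31]), (96, 2, [24, 22, 24]), (92, 2, [24, 22, 24]), (147, 3, [24]), (93, 2, [24, 22, 24]), (150, 3, [24]), (91, 2, [24, 22, 24])],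
  [(1, 1, [30, 17, 30]), (1, 1, [17]), (1, 1, [31, 17, 31]), (163, 2, [24, 23, 24]), (163, 2, [23]), (163, 2, [25, 23, 25]), (163, 2, [25, 22, 25]), (163, 2, [22]), (163, 2, [24, 22, 24]), (234, 4, [25, 23, 25]), (242, 5, [25, 23, 25]), (238, 5, [25, 23, 25]), (240, 5, [25, 23, 25]), (209, 5, [24, 22, 24]), (235, 5, [25, 23, 25]), (237, 5, [25, 23, 25]), (236, 5, [25, 23, 25]), (208, 5, [24, 22, 24]), (576, 2, [29, 19, 29]), (577, 3, [29, 19, 29]), (578, 3, [29, 19, 29]), (571, 3, [28, 19, 28]), (572, 4, [28, 19, 28]), (570, 4, [28, 19, 28]), (593, 3, [19]), (591, 4, [19]), (592, 4, [19])],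
  [(180, 3, [25, 22, 25]), (183, 4, [25, 22, 25]), (186, 4, [25, 22, 25]), (182, 4, [25, 22, 25]), (185, 5, [25, 22, 25]), (188, 5, [25, 22, 25]), (181, 4, [25, 22, 25]), (184, 5, [25, 22, 25]), (187, 5, [25, 22, 25]), (180, 3, [24, 22, 24]), (198, 4, [31]), (198, 4, [30]), (186, 4, [24, 22, 24]), (182, 4, [24, 22, 24]), (184, 5, [24, 22, 24]), (183, 4, [24, 22, 24]), (206, 5, [30]), (181, 4, [24, 22, 24]), (180, 3, [22]), (207, 4, [31]), (207, 4, [30]), (183, 4, [22]), (187, 5, [22]), (182, 4, [22]), (186, 4, [22]), (181, 4, [22]), (214, 5, [31])],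
  [(180, 3, [24, 23, 24]), (186, 4, [24, 23, 24]), (183, 4, [24, 23, 24]), (181, 4, [24, 23, 24]), (187, 5, [24, 23, 24]), (184, 5, [24, 23, 24]), (182, 4, [24, 23, 24]), (188, 5, [24, 23, 24]), (185, 5, [24, 23, 24]), (180, 3, [25, 23, 25]), (225, 4, [31]), (225, 4, [30]), (186, 4, [25, 23, 25]), (230, 5, [30]), (181, 4, [25, 23, 25]), (183, 4, [25, 23, 25]), (182, 4, [25, 23, 25]), (187, 5, [25, 23, 25]), (180, 3, [23]), (234, 4, [31]), (234, 4, [30]), (183, 4, [23]), (181, 4, [23]), (238, 5, [31]), (186, 4, [23]), (184, 5, [23]), (182, 4, [23])],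
  [(1, 1, [33, 14, 33]), (1, 1, [14]), (1, 1, [32, 14, 32]), (100, 4, [28, 19, 28]), (101, 4, [28, 19, 28]), (99, 3, [28, 19, 28]), (92, 2, [29, 18, 29]), (90, 1, [29, 18, 29]), (91, 2, [29, 18, 29]), (244, 2, [26, 21, 26]), (244, 2, [21]), (244, 2, [27, 21, 27]), (106, 4, [29, 19, 29]), (107, 4, [29, 19, 29]), (304, 4, [27, 21, 27]), (578, 3, [29, 18, 29]), (576, 2, [29, 18, 29]), (577, 3, [29, 18, 29]), (244, 2, [27, 20, 27]), (244, 2, [20]), (244, 2, [26, 20, 26]), (103, 4, [19]), (104, 4, [19]), (322, 4, [27, 21, 27]), (335, 3, [29, 18, 29]), (333, 2, [29, 18, 29]), (334, 3, [29, 18, 29])],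
  [(249, 3, [27, 20, 27]), (258, 4, [27, 20, 27]), (267, 4, [27, 20, 27]), (249, 3, [26, 20, 26]), (260, 4, [26, 20, 26]), (268, 3, [26, 20, 26]), (249, 3, [20]), (259, 3, [20]), (277, 4, [32]), (251, 3, [27, 20, 27]), (260, 4, [27, 20, 27]), (269, 4, [27, 20, 27]), (284, 4, [32]), (251, 3, [26, 20, 26]), (259, 3, [26, 20, 26]), (258, 4, [20]), (268, 3, [20]), (251, 3, [20]), (250, 2, [27, 20, 27]), (259, 3, [27, 20, 27]), (268, 3, [27, 20, 27]), (293, 3, [32]), (293, 3, [33]), (250, 2, [26, 20, 26]), (295, 3, [33]), (250, 2, [20]), (295, 3, [32])],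
  [(249, 3, [26, 21, 26]), (267, 4, [26, 21, 26]), (258, 4, [26, 21, 26]), (249, 3, [27, 21, 27]), (302, 4, [33]), (259, 3, [27, 21, 27]), (249, 3, [21]), (268, 3, [21]), (260, 4, [21]), (250, 2, [26, 21, 26]), (268, 3, [26, 21, 26]), (259, 3, [26, 21, 26]), (311, 3, [32]), (311, 3, [33]), (250, 2, [27, 21, 27]), (313, 3, [33]), (250, 2, [21]), (313, 3, [32]), (251, 3, [26, 21, 26]), (269, 4, [26, 21, 26]), (260, 4, [26, 21, 26]), (258, 4, [27, 21, 27]), (251, 3, [27, 21, 27]), (268, 3, [27, 21, 27]), (322, 4, [33]), (259, 3, [21]), (251, 3, [21])],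
  [(12, 1, [29, 18, 29]), (13, 2, [29, 18, 29]), (14, 2, [29, 18, 29]), (106, 4, [28, 19, 28]), (107, 4, [28, 19, 28]), (105, 4, [28, 19, 28]), (335, 3, [29]), (333, 2, [29]), (334, 3, [29]), (90, 1, [18]), (333, 2, [27]), (333, 2, [26]), (338, 2, [25]), (338, 2, [24]), (12, 1, [18]), (104, 4, [29, 19, 29]), (102, 4, [29, 19, 29]), (103, 4, [29, 19, 29]), (99, 3, [19]), (100, 4, [19]), (101, 4, [19]), (334, 3, [28]), (335, 3, [28]), (333, 2, [28]), (14, 2, [28, 18, 28]), (12, 1, [28, 18, 28]), (13, 2, [28, 18, 28])],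
  [(351, 0, []), (351, 1, [30]), (351, 1, [31]), (351, 1, [27]), (354, 2, [30]), (369, 2, [28]), (351, 1, [26]), (360, 2, [29]), (357, 2, [31]), (351, 1, [25]), (360, 2, [30]), (360, 2, [31]), (365, 2, [30]), (360, 2, [27]), (351, 1, [28]), (365, 2, [27]), (369, 2, [29]), (360, 2, [26]), (351, 1, [24]), (369, 2, [30]), (369, 2, [31]), (365, 2, [25]), (357, 2, [29]), (360, 2, [28]), (376, 2, [31]), (351, 1, [29]), (376, 2, [30])],
  [(378, 0, []), (378, 1, [30]), (378, 1, [31]), (378, 1, [26]), (381, 2, [30]), (396, 2, [28]), (378, 1, [27]), (387, 2, [29]), (384, 2, [31]), (378, 1, [24]), (387, 2, [30]), (387, 2, [31]), (392, 2, [30]), (392, 2, [31]), (378, 1, [28]), (403, 2, [25]), (396, 2, [29]), (381, 2, [28]), (378, 1, [25]), (396, 2, [30]), (396, 2, [31]), (403, 2, [27]), (396, 2, [26]), (387, 2, [28]), (403, 2, [31]), (378, 1, [29]), (396, 2, [27])],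
  [(15, 1, [29, 18, 29]), (16, 2, [29, 18, 29]), (17, 2, [29, 18, 29]), (103, 4, [28, 19, 28]), (104, 4, [28, 19, 28]), (102, 4, [28, 19, 28]), (98, 3, [29, 18, 29]), (96, 2, [29, 18, 29]), (97, 3, [29, 18, 29]), (99, 3, [29, 19, 29]), (100, 4, [29, 19, 29]), (101, 4, [29, 19, 29]), (94, 3, [18]), (95, 3, [18]), (93, 2, [18]), (421, 2, [25]), (15, 1, [18]), (421, 2, [24]), (90, 1, [28, 18, 28]), (91, 2, [28, 18, 28]), (92, 2, [28, 18, 28]), (16, 2, [28, 18, 28]), (17, 2, [28, 18, 28]), (15, 1, [28, 18, 28]), (107, 4, [19]), (105, 4, [19]), (106, 4, [19])],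
  [(432, 0, []), (432, 1, [31]), (432, 1, [30]), (432, 1, [27]), (435, 2, [31]), (441, 2, [29]), (432, 1, [26]), (450, 2, [28]), (438, 2, [30]), (432, 1, [25]), (441, 2, [31]), (441, 2, [30]), (448, 2, [26]), (441, 2, [27]), (450, 2, [29]), (448, 2, [30]), (432, 1, [28]), (441, 2, [26]), (432, 1, [24]), (450, 2, [31]), (450, 2, [30]), (455, 2, [31]), (455, 2, [30]), (432, 1, [29]), (448, 2, [25]), (441, 2, [28]), (435, 2, [29])],
  [(459, 0, []), (459, 1, [31]), (459, 1, [30]), (459, 1, [26]), (462, 2, [31]), (468, 2, [29]), (459, 1, [27]), (477, 2, [28]), (465, 2, [30]), (459, 1, [24]), (468, 2, [31]), (468, 2, [30]), (482, 2, [25]), (465, 2, [28]), (477, 2, [29]), (475, 2, [30]), (459, 1, [28]), (475, 2, [31]), (459, 1, [25]), (477, 2, [31]), (477, 2, [30]), (482, 2, [31]), (477, 2, [26]), (459, 1, [29]), (482, 2, [26]), (468, 2, [28]), (477, 2, [27])],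
  [(1, 1, [32, 15, 32]), (1, 1, [15]), (1, 1, [33, 15, 33]), (92, 2, [28, 19, 28]), (90, 1, [28, 19, 28]), (91, 2, [28, 19, 28]), (100, 4, [29, 18, 29]), (101, 4, [29, 18, 29]), (99, 3, [29, 18, 29]), (487, 2, [26, 21, 26]), (487, 2, [21]), (487, 2, [27, 21, 27]), (335, 3, [28, 19, 28]), (333, 2, [28, 19, 28]), (334, 3, [28, 19, 28]), (103, 4, [28, 18, 28]), (104, 4, [28, 18, 28]), (517, 4, [27, 21, 27]), (487, 2, [27, 20, 27]), (487, 2, [20]), (487, 2, [26, 20, 26]), (578, 3, [28, 19, 28]), (576, 2, [28, 19, 28]), (577, 3, [28, 19, 28]), (106, 4, [18]), (107, 4, [18]), (535, 4, [27, 21, 27])],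
  [(489, 3, [26, 21, 26]), (507, 4, [26, 21, 26]), (498, 4, [26, 21, 26]), (489, 3, [21]), (508, 3, [21]), (517, 4, [33]), (489, 3, [27, 21, 27]), (509, 4, [27, 21, 27]), (499, 3, [27, 21, 27]), (490, 2, [26, 21, 26]), (508, 3, [26, 21, 26]), (499, 3, [26, 21, 26]), (526, 3, [32]), (490, 2, [21]), (526, 3, [33]), (530, 3, [33]), (530, 3, [32]), (490, 2, [27, 21, 27]), (491, 3, [26, 21, 26]), (509, 4, [26, 21, 26]), (500, 4, [26, 21, 26]), (507, 4, [21]), (499, 3, [21]), (491, 3, [21]), (539, 4, [33]), (491, 3, [27, 21, 27]), (508, 3, [27, 21, 27])],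
  [(489, 3, [27, 20, 27]), (498, 4, [27, 20, 27]), (507, 4, [27, 20, 27]), (489, 3, [20]), (499, 3, [20]), (509, 4, [20]), (489, 3, [26, 20, 26]), (548, 4, [32]), (508, 3, [26, 20, 26]), (491, 3, [27, 20, 27]), (500, 4, [27, 20, 27]), (509, 4, [27, 20, 27]), (553, 4, [32]), (508, 3, [20]), (491, 3, [20]), (507, 4, [26, 20, 26]), (491, 3, [26, 20, 26]), (499, 3, [26, 20, 26]), (490, 2, [27, 20, 27]), (499, 3, [27, 20, 27]), (508, 3, [27, 20, 27]), (562, 3, [32]), (490, 2, [20]), (562, 3, [33]), (566, 3, [33]), (566, 3, [32]), (490, 2, [26, 20, 26])],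
  [(15, 1, [28, 19, 28]), (16, 2, [28, 19, 28]), (17, 2, [28, 19, 28]), (578, 3, [28]), (576, 2, [28]), (577, 3, [28]), (103, 4, [29, 18, 29]), (104, 4, [29, 18, 29]), (102, 4, [29, 18, 29]), (90, 1, [19]), (576, 2, [27]), (576, 2, [26]), (107, 4, [28, 18, 28]), (105, 4, [28, 18, 28]), (106, 4, [28, 18, 28]), (584, 2, [24]), (584, 2, [25]), (15, 1, [19]), (99, 3, [18]), (100, 4, [18]), (101, 4, [18]), (17, 2, [29, 19, 29]), (15, 1, [29, 19, 29]), (16, 2, [29, 19, 29]), (577, 3, [29]), (578, 3, [29]), (576, 2, [29])],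
  [(594, 0, []), (594, 1, [30]), (594, 1, [31]), (594, 1, [27]), (603, 2, [28]), (597, 2, [31]), (594, 1, [26]), (600, 2, [30]), (612, 2, [29]), (594, 1, [25]), (603, 2, [30]), (603, 2, [31]), (616, 2, [24]), (603, 2, [27]), (600, 2, [29]), (611, 2, [30]), (611, 2, [31]), (594, 1, [29]), (594, 1, [24]), (612, 2, [30]), (612, 2, [31]), (616, 2, [31]), (594, 1, [28]), (612, 2, [27]), (616, 2, [27]), (612, 2, [26]), (603, 2, [29])],
  [(621, 0, []), (621, 1, [30]), (621, 1, [31]), (621, 1, [26]), (630, 2, [28]), (624, 2, [31]), (621, 1, [27]), (627, 2, [30]), (639, 2, [29]), (621, 1, [24]), (630, 2, [30]), (630, 2, [31]), (638, 2, [27]), (639, 2, [28]), (630, 2, [26]), (638, 2, [30]), (630, 2, [27]), (621, 1, [29]), (621, 1, [25]), (639, 2, [30]), (639, 2, [31]), (643, 2, [31]), (621, 1, [28]), (643, 2, [30]), (638, 2, [24]), (624, 2, [28]), (639, 2, [27])],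
  [(12, 1, [28, 19, 28]), (13, 2, [28, 19, 28]), (14, 2, [28, 19, 28]), (95, 3, [28, 19, 28]), (93, 2, [28, 19, 28]), (94, 3, [28, 19, 28]), (106, 4, [29, 18, 29]), (107, 4, [29, 18, 29]), (105, 4, [29, 18, 29]), (99, 3, [28, 18, 28]), (100, 4, [28, 18, 28]), (101, 4, [28, 18, 28]), (661, 2, [24]), (12, 1, [19]), (661, 2, [25]), (97, 3, [19]), (98, 3, [19]), (96, 2, [19]), (90, 1, [29, 19, 29]), (91, 2, [29, 19, 29]), (92, 2, [29, 19, 29]), (104, 4, [18]), (102, 4, [18]), (103, 4, [18]), (13, 2, [29, 19, 29]), (14, 2, [29, 19, 29]), (12, 1, [29, 19, 29])],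
  [(675, 0, []), (675, 1, [31]), (675, 1, [30]), (675, 1, [27]), (693, 2, [29]), (678, 2, [30]), (675, 1, [26]), (681, 2, [31]), (684, 2, [28]), (675, 1, [25]), (684, 2, [31]), (684, 2, [30]), (688, 2, [30]), (675, 1, [29]), (688, 2, [31]), (701, 2, [24]), (678, 2, [29]), (684, 2, [26]), (675, 1, [24]), (693, 2, [31]), (693, 2, [30]), (701, 2, [26]), (684, 2, [29]), (693, 2, [27]), (701, 2, [31]), (693, 2, [26]), (675, 1, [28])],
  [(702, 0, []), (702, 1, [31]), (702, 1, [30]), (702, 1, [26]), (720, 2, [29]), (705, 2, [30]), (702, 1, [27]), (708, 2, [31]), (711, 2, [28]), (702, 1, [24]), (711, 2, [31]), (711, 2, [30]), (715, 2, [30]), (702, 1, [29]), (711, 2, [26]), (715, 2, [26]), (711, 2, [27]), (720, 2, [28]), (702, 1, [25]), (720, 2, [31]), (720, 2, [30]), (715, 2, [24]), (720, 2, [26]), (708, 2, [28]), (728, 2, [31]), (728, 2, [30]), (702, 1, [28])]]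

/-- The roots of the first level. -/
def roots1 : List ℕ := [0, 1, 12, 15, 90, 351, 378, 432, 459, 594, 621, 675, 702]

/-- Conjugates of the radical letters. -/
def nrmT : List (List ℕ) := [
  [243, 486, 81, 162, 27, 54, 9, 18, 246, 492, 82, 164],
  [243, 486, 81, 162, 27, 54, 9, 18, 489, 249, 163, 83],
  [243, 486, 81, 162, 27, 54, 252, 504, 3, 6, 55, 29],
  [243, 486, 81, 162, 27, 54, 495, 261, 3, 6, 28, 56],
  [243, 486, 81, 162, 270, 540, 9, 18, 3, 6, 19, 11],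
  [243, 486, 81, 162, 513, 297, 9, 18, 3, 6, 10, 20],
  [243, 486, 324, 648, 27, 54, 9, 18, 3, 6, 4, 8],
  [243, 486, 567, 405, 27, 54, 9, 18, 3, 6, 7, 5],
  [243, 486, 81, 162, 27, 54, 90, 180, 30, 60, 1, 2],
  [243, 486, 81, 162, 27, 54, 171, 99, 57, 33, 1, 2],
  [243, 486, 81, 162, 108, 216, 9, 18, 12, 24, 1, 2],
  [243, 486, 81, 162, 189, 135, 9, 18, 21, 15, 1, 2],
  [243, 486, 108, 216, 27, 54, 12, 24, 3, 6, 1, 2],
  [243, 486, 135, 189, 27, 54, 15, 21, 3, 6, 1, 2],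
  [243, 486, 90, 180, 30, 60, 9, 18, 3, 6, 1, 2],
  [243, 486, 99, 171, 33, 57, 9, 18, 3, 6, 1, 2],
  [324, 648, 81, 162, 27, 54, 9, 18, 4, 8, 1, 2],
  [405, 567, 81, 162, 27, 54, 9, 18, 5, 7, 1, 2],
  [270, 540, 81, 162, 27, 54, 11, 19, 3, 6, 1, 2],
  [297, 513, 81, 162, 27, 54, 10, 20, 3, 6, 1, 2],
  [252, 504, 81, 162, 29, 55, 9, 18, 3, 6, 1, 2],
  [261, 495, 81, 162, 28, 56, 9, 18, 3, 6, 1, 2],
  [246, 492, 82, 164, 27, 54, 9, 18, 3, 6, 1, 2],
  [249, 489, 83, 163, 27, 54, 9, 18, 3, 6, 1, 2]]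

/-- The representatives. -/
def repW : List (List ℕ) := [
  [46],
  [40, 42],
  [40, 43],
  [34, 41],
  [34, 40],
  [34, 43],
  [34, 42],
  [34, 41, 43],
  [34, 40, 42],
  [34, 41, 42],
  [34, 40, 43],
  [30, 32, 38, 45],
  [34, 38]]

/-- The invariants of the representatives. -/
def repT : List (ℕ × ℕ × ℕ) := [(0, 0, 0), (1, 0, 0), (2, 0, 0), (0, 1, 0), (0, 2, 0), (0, 0, 1), (0, 0, 2), (1, 1, 1), (1, 2, 2), (2, 1, 2), (2, 2, 1), (3, 3, 3), (4, 4, 4)]

/-- The action of triality. -/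
def sigA : List ℕ := [0, 5, 6, 1, 2, 3, 4, 7, 10, 8, 9, 11, 12]

/-- The action of the exchange. -/
def sigB : List ℕ := [0, 1, 2, 5, 6, 3, 4, 7, 8, 10, 9, 11, 12]

/-- The orbit of a class. -/
def labT : List ℕ := [0, 1, 2, 1, 2, 1, 2, 3, 4, 4, 4, 5, 6]

/-- A class of each orbit. -/
def orbR : List ℕ := [0, 1, 2, 7, 8, 11, 12]

end CfsgLib.Classical.O8Three
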