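import Mathlib

/-! Certificates: the second level over the root 0. -/

set_option autoImplicit false
set_option maxRecDepth 100000
set_option maxHeartbeats 4000000

namespace CfsgLib.Classical.O8Three

/-- The certificate of each element over the root. -/
def T2R0 : List (List (ℕ × ℕ × List ℕ)) := [
  [(1, 13, []), (1, 0, []), (3, 10, [30, 16, 30]), (2, 1, [28, 19, 28]), (2, 1, [19]), (2, 1, [29, 19, 29]), (2, 1, [29, 18, 29]), (2, 1, [18]), (2, 1, [28, 18, 28]), (2, 1, [31, 16, 31]), (2, 1, [16]), (2, 1, [30, 16, 30]), (3, 10, [28, 19, 28]), (3, 10, [19]), (3, 10, [29, 19, 29]), (3, 10, [29, 18, 29]), (3, 10, [18]), (3, 10, [28, 18, 28]), (2, 1, [30, 17, 30]), (2, 1, [17]), (2, 1, [31, 17, 31]), (3, 19, [28, 19, 28]), (3, 19, [19]), (3, 19, [29, 19, 29]), (3, 19, [29, 18, 29]), (3, 19, [18]), (3, 19, [28, 18, 28])],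
  [(3, 28, [33]), (2, 1, [14]), (3, 28, [32]), (3, 28, [28, 19, 28]), (3, 28, [19]), (3, 28, [29, 19, 29]), (3, 28, [29, 18, 29]), (3, 28, [18]), (3, 28, [28, 18, 28]), (1, 1, []), (2, 36, [30]), (2, 36, [31]), (2, 36, [25]), (3, 39, [29]), (3, 39, [28]), (2, 36, [24]), (3, 42, [28]), (3, 42, [29]), (1, 2, []), (2, 45, [31]), (2, 45, [30]), (2, 45, [24]), (3, 48, [29]), (3, 48, [28]), (2, 45, [25]), (3, 51, [28]), (3, 51, [29])],
  [(3, 55, [32]), (2, 1, [15]), (3, 55, [33]), (3, 55, [28, 19, 28]), (3, 55, [19]), (3, 55, [29, 19, 29]), (3, 55, [29, 18, 29]), (3, 55, [18]), (3, 55, [28, 18, 28]), (3, 288, [31, 17, 31]), (4, 316, [17]), (4, 263, [30, 17, 30]), (4, 291, [31, 17, 31]), (5, 319, [17]), (5, 266, [30, 17, 30]), (4, 294, [31, 17, 31]), (5, 322, [17]), (5, 269, [30, 17, 30]), (3, 522, [30, 16, 30]), (4, 550, [16]), (4, 497, [31, 16, 31]), (4, 525, [30, 16, 30]), (5, 553, [16]), (5, 500, [31, 16,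 31]), (4, 528, [30, 16, 30]), (5, 556, [16]), (5, 503, [31, 16, 31])],
  [(3, 82, [34]), (2, 1, [13]), (3, 82, [35]), (2, 45, [24, 23, 24]), (3, 46, [24, 23, 24]), (3, 47, [24, 23, 24]), (2, 36, [24, 23, 24]), (3, 37, [24, 23, 24]), (3, 38, [24, 23, 24]), (3, 82, [31, 16, 31]), (3, 82, [16]), (3, 82, [30, 16, 30]), (3, 126, [27, 20, 27]), (4, 127, [27, 20, 27]), (4, 128, [27, 20, 27]), (3, 198, [26, 21, 26]), (4, 199, [26, 21, 26]), (4, 200, [26, 21, 26]), (3, 82, [30, 17, 30]), (3, 82, [17]), (3, 82, [31, 17, 31]), (3, 126, [24]), (4, 102, [29]), (4, 102, [28]), (3, 117, [26, 21, 26]), (4, 118, [26, 21, 26]), (4, 119, [26, 21, 26])],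
  [(4, 109, [33]), (3, 82, [14]), (4, 109, [32]), (3, 126, [27]), (4, 111, [29]), (4, 111, [28]), (3, 198, [24, 23, 24]), (4, 199, [24, 23, 24]), (4, 200, [24, 23, 24]), (2, 36, [21]), (3, 117, [30]), (3, 117, [31]), (4, 572, [30, 17, 30]), (4, 109, [27]), (4, 92, [25]), (3, 126, [26]), (4, 123, [28]), (4, 123, [29]), (2, 45, [20]), (3, 126, [31]), (3, 126, [30]), (3, 117, [27]), (4, 129, [29]), (4, 129, [28]), (4, 332, [31, 16, 31]), (4, 109, [26]), (4, 101, [25])],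
  [(4, 136, [32]), (3, 82, [15]), (4, 136, [33]), (3, 126, [24, 23, 24]), (4, 127, [24, 23, 24]), (4, 128, [24, 23, 24]), (3, 117, [24, 23, 24]), (4, 118, [24, 23, 24]), (4, 119, [24, 23, 24]), (2, 45, [25, 23, 25]), (3, 46, [25, 23, 25]), (3, 47, [25, 23, 25]), (3, 117, [25]), (4, 147, [29]), (4, 147, [28]), (4, 332, [30, 17, 30]), (4, 136, [27]), (4, 92, [24]), (2, 36, [25, 23, 25]), (3, 37, [25, 23, 25]), (3, 38, [25, 23, 25]), (4, 572, [31, 16, 31]), (4, 136, [26]), (4, 101, [24]), (3, 126, [25]), (4, 159, [28]), (4, 159, [29])],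
  [(3, 163, [35]), (2, 1, [12]), (3, 163, [34]), (2, 36, [25, 22, 25]), (3, 37, [25, 22, 25]), (3, 38, [25, 22, 25]), (2, 45, [25, 22, 25]), (3, 46, [25, 22, 25]), (3, 47, [25, 22, 25]), (3, 163, [31, 16, 31]), (3, 163, [16]), (3, 163, [30, 16, 30]), (3, 198, [25]), (4, 174, [29]), (4, 174, [28]), (3, 207, [26, 21, 26]), (4, 208, [26, 21, 26]), (4, 209, [26, 21, 26]), (3, 163, [30, 17, 30]), (3, 163, [17]), (3, 163, [31, 17, 31]), (3, 198, [27, 20, 27]), (4, 199, [27, 20, 27]), (4, 200, [27, 20, 27]), (3, 126, [26, 21, 26]), (4, 127, [26, 21, 26]), (4, 128, [26, 21, 26])],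
  [(4, 190, [33]), (3, 163, [14]), (4, 190, [32]), (3, 198, [27]), (4, 192, [29]), (4, 192, [28]), (3, 126, [25, 22, 25]), (4, 127, [25, 22, 25]), (4, 128, [25, 22, 25]), (2, 36, [20]), (3, 198, [30]), (3, 198, [31]), (3, 207, [27]), (4, 201, [29]), (4, 201, [28]), (4, 412, [31, 16, 31]), (4, 190, [26]), (4, 173, [24]), (2, 45, [21]), (3, 207, [31]), (3, 207, [30]), (4, 652, [30, 17, 30]), (4, 190, [27]), (4, 182, [24]), (3, 198, [26]), (4, 213, [28]), (4, 213, [29])],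
  [(4, 217, [32]), (3, 163, [15]), (4, 217, [33]), (3, 198, [25, 22, 25]), (4, 199, [25, 22, 25]), (4, 200, [25, 22, 25]), (3, 207, [25, 22, 25]), (4, 208, [25, 22, 25]), (4, 209, [25, 22, 25]), (2, 45, [24, 22, 24]), (3, 46, [24, 22, 24]), (3, 47, [24, 22, 24]), (4, 652, [31, 16, 31]), (4, 217, [26]), (4, 173, [25]), (3, 198, [24]), (4, 231, [28]), (4, 231, [29]), (2, 36, [24, 22, 24]), (3, 37, [24, 22, 24]), (3, 38, [24, 22, 24]), (3, 207, [24]), (4, 237, [29]), (4, 237, [28]), (4, 412, [30, 17, 30]), (4, 217, [27]), (4, 182, [25])],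
  [(4, 162, [29, 18, 29]), (2, 36, [30, 17, 30]), (2, 45, [30, 17, 30]), (3, 82, [28, 19, 28]), (3, 39, [30, 17, 30]), (3, 48, [30, 17, 30]), (3, 163, [29, 18, 29]), (3, 42, [30, 17, 30]), (3, 51, [30, 17, 30]), (3, 55, [31, 16, 31]), (3, 279, [30]), (3, 47, [30, 17, 30]), (4, 249, [24, 22, 24]), (4, 497, [28, 18, 28]), (4, 50, [30, 17, 30]), (4, 172, [29, 18, 29]), (4, 497, [29, 19, 29]), (4, 248, [25, 23, 25]), (3, 28, [30, 17, 30]), (3, 37, [30, 17, 30]), (3, 288, [30]), (4, 249, [25, 23, 25]), (4, 250, [25, 23, 25]), (4, 291, [30]), (4, 181, [29, 18, 29]), (4, 43, [30, 17, 30]), (4, 294, [30])],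
  [(4, 249, [27, 20, 27]), (3, 522, [30, 17, 30]), (3, 288, [33]), (4, 249, [26, 20, 26]), (4, 525, [30, 17, 30]), (4, 291, [33]), (4, 190, [29, 18, 29]), (4, 528, [30, 17, 30]), (4, 294, [33]), (2, 36, [15]), (3, 288, [32]), (3, 55, [30, 16, 30]), (3, 279, [25]), (4, 291, [32]), (4, 523, [29, 19, 29]), (3, 279, [24]), (4, 294, [32]), (4, 523, [28, 18, 28]), (2, 45, [14]), (3, 28, [17]), (3, 279, [33]), (3, 288, [24]), (4, 289, [19]), (4, 532, [29, 19, 29]), (3, 288, [25]), (4, 289, [18]), (4, 532, [28, 18, 28])],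
  [(4, 249, [26, 21, 26]), (3, 279, [30, 17, 30]), (3, 288, [30, 17, 30]), (4, 249, [27, 21, 27]), (4, 542, [28, 18, 28]), (4, 291, [30, 17, 30]), (4, 217, [29, 18, 29]), (4, 542, [29, 19, 29]), (4, 294, [30, 17, 30]), (2, 45, [31, 17, 31]), (3, 55, [16]), (3, 279, [31]), (3, 48, [31, 17, 31]), (4, 32, [31, 17, 31]), (4, 550, [29, 19, 29]), (3, 51, [31, 17, 31]), (4, 35, [31, 17, 31]), (4, 550, [28, 18, 28]), (2, 36, [31, 17, 31]), (3, 288, [31]), (3, 28, [31, 17, 31]), (3, 39, [31, 17, 31]), (4, 291, [31]), (4, 31, [31, 17, 31]), (3, 42, [31, 17, 31]), (4, 294, [31]), (4, 34, [31, 17, 31])],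
  [(4, 162, [28, 18, 28]), (3, 117, [30, 17, 30]), (3, 126, [30, 17, 30]), (3, 288, [24, 23, 24]), (3, 82, [19]), (4, 308, [25, 22, 25]), (3, 279, [24, 23, 24]), (4, 316, [25, 22, 25]), (3, 163, [28, 18, 28]), (4, 171, [28, 18, 28]), (4, 360, [30]), (4, 263, [26, 20, 26]), (4, 369, [27, 20, 27]), (4, 412, [24, 22, 24]), (5, 578, [18]), (4, 441, [26, 21, 26]), (5, 366, [30]), (4, 172, [28, 18, 28]), (4, 180, [28, 18, 28]), (4, 253, [27, 21, 27]), (4, 369, [30]), (4, 369, [24]), (4, 412, [25, 23, 25]), (5, 571, [31, 17, 31]), (4, 360, [26, 21, 26]), (5, 345, [35]), (4, 181, [28, 18, 28])],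
  [(5, 189, [28, 18, 28]), (4, 603, [30, 17, 30]), (4, 369, [33]), (4, 369, [27]), (4, 412, [26, 20, 26]), (5, 433, [29, 19, 29]), (4, 441, [24, 23, 24]), (5, 402, [31, 16, 31]), (4, 190, [28, 18, 28]), (3, 279, [21]), (4, 369, [32]), (4, 136, [30, 16, 30]), (5, 599, [30, 17, 30]), (4, 360, [35]), (5, 366, [34]), (4, 369, [26]), (5, 439, [22]), (4, 360, [34]), (3, 288, [20]), (4, 109, [17]), (4, 360, [33]), (4, 360, [27]), (4, 369, [35]), (5, 451, [29, 19, 29]), (5, 451, [29, 18, 29]), (5, 613, [18]), (4, 369, [34])],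
  [(5, 216, [28, 18, 28]), (4, 639, [31, 16, 31]), (4, 369, [30, 17, 30]), (4, 369, [24, 23, 24]), (4, 412, [27, 21, 27]), (5, 633, [31, 16, 31]), (4, 360, [24, 23, 24]), (5, 402, [33]), (4, 217, [28, 18, 28]), (3, 288, [25, 23, 25]), (4, 136, [16]), (4, 360, [31]), (4, 360, [25]), (4, 387, [35]), (5, 359, [24, 22, 24]), (5, 359, [30, 17, 30]), (5, 631, [18]), (4, 387, [34]), (3, 279, [25, 23, 25]), (4, 369, [31]), (4, 109, [31, 17, 31]), (5, 276, [25, 23, 25]), (4, 396, [35]), (5, 345, [30]), (4, 369, [25]), (5, 359, [30, 16, 30]), (4, 396, [34])],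
  [(4, 412, [35]), (3, 198, [30, 17, 30]), (3, 207, [30, 17, 30]), (3, 279, [25, 22, 25]), (4, 316, [24, 23, 24]), (3, 82, [29, 19, 29]), (3, 288, [25, 22, 25]), (3, 163, [18]), (4, 308, [24, 23, 24]), (4, 217, [31, 16, 31]), (4, 441, [30]), (4, 263, [27, 21, 27]), (4, 441, [25]), (5, 361, [27, 20, 27]), (4, 652, [30, 16, 30]), (4, 450, [26, 21, 26]), (4, 172, [18]), (5, 659, [19]), (4, 190, [30, 17, 30]), (4, 253, [26, 20, 26]), (4, 450, [30]), (4, 441, [27, 20, 27]), (5, 345, [29]), (4, 652, [31, 17, 31]), (4, 369, [26, 21, 26]), (4, 181, [18]), (5, 655, [31, 17, 31])],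
  [(5, 451, [33]), (4, 684, [30, 17, 30]), (4, 450, [33]), (4, 441, [27]), (5, 354, [29]), (4, 332, [26, 20, 26]), (4, 369, [25, 22, 25]), (4, 190, [18]), (5, 699, [30, 17, 30]), (3, 279, [20]), (4, 450, [32]), (4, 217, [30, 16, 30]), (4, 450, [27]), (5, 685, [19]), (4, 441, [35]), (5, 685, [29, 18, 29]), (4, 441, [34]), (5, 366, [29]), (3, 288, [21]), (4, 190, [17]), (4, 441, [33]), (5, 451, [35]), (5, 694, [19]), (4, 450, [35]), (4, 441, [26]), (4, 450, [34]), (5, 451, [34])],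
  [(5, 189, [31, 17, 31]), (4, 720, [31, 16, 31]), (4, 450, [30, 17, 30]), (4, 441, [25, 22, 25]), (5, 397, [24, 23, 24]), (4, 332, [27, 21, 27]), (4, 450, [25, 22, 25]), (4, 217, [18]), (5, 717, [31, 16, 31]), (3, 288, [24, 22, 24]), (4, 217, [16]), (4, 441, [31]), (5, 276, [24, 22, 24]), (5, 712, [19]), (4, 468, [35]), (4, 441, [24]), (4, 468, [34]), (5, 439, [30, 16, 30]), (3, 279, [24, 22, 24]), (4, 450, [31]), (4, 190, [31, 17, 31]), (4, 450, [24]), (5, 451, [24]), (4, 477, [35]), (5, 439, [30, 17, 30]), (4, 477, [34]), (5, 402, [29])],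
  [(4, 162, [28, 19, 28]), (2, 45, [31, 16, 31]), (2, 36, [31, 16, 31]), (3, 163, [28, 19, 28]), (3, 48, [31, 16, 31]), (3, 39, [31, 16, 31]), (3, 82, [29, 18, 29]), (3, 51, [31, 16, 31]), (3, 42, [31, 16, 31]), (3, 28, [31, 16, 31]), (3, 46, [31, 16, 31]), (3, 522, [31]), (4, 172, [28, 19, 28]), (4, 49, [31, 16, 31]), (4, 525, [31]), (4, 489, [25, 23, 25]), (4, 490, [25, 23, 25]), (4, 528, [31]), (3, 55, [30, 17, 30]), (3, 531, [31]), (3, 38, [31, 16, 31]), (4, 181, [28, 19, 28]), (4, 263, [28, 18, 28]), (4, 494, [25, 23, 25]), (4, 489, [24, 22, 24]), (4, 263, [29, 19, 29]), (4, 44, [31, 16, 31])],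
  [(4, 489, [26, 21, 26]), (3, 288, [31, 16, 31]), (3, 522, [33]), (4, 190, [28, 19, 28]), (4, 291, [31, 16, 31]), (4, 525, [33]), (4, 489, [27, 21, 27]), (4, 294, [31, 16, 31]), (4, 528, [33]), (2, 36, [14]), (3, 28, [16]), (3, 531, [33]), (3, 522, [25]), (4, 523, [19]), (4, 280, [29, 19, 29]), (3, 522, [24]), (4, 523, [18]), (4, 280, [28, 18, 28]), (2, 45, [15]), (3, 522, [32]), (3, 55, [31, 17, 31]), (3, 531, [24]), (4, 525, [32]), (4, 289, [29, 19, 29]), (3, 531, [25]), (4, 528, [32]), (4, 289, [28, 18, 28])],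
  [(4, 489, [27, 20, 27]), (3, 531, [31, 16, 31]), (3, 522, [31, 16, 31]), (4, 217, [28, 19, 28]), (4, 299, [28, 18, 28]), (4, 525, [31, 16, 31]), (4, 489, [26, 20, 26]), (4, 299, [29, 19, 29]), (4, 528, [31, 16, 31]), (2, 45, [30, 16, 30]), (3, 522, [30]), (3, 28, [30, 16, 30]), (3, 48, [30, 16, 30]), (4, 525, [30]), (4, 31, [30, 16, 30]), (3, 51, [30, 16, 30]), (4, 528, [30]), (4, 34, [30, 16, 30]), (2, 36, [30, 16, 30]), (3, 55, [17]), (3, 531, [30]), (3, 39, [30, 16, 30]), (4, 32, [30, 16, 30]), (4, 316, [29, 19, 29]), (3, 42, [30, 16, 30]), (4, 35, [30, 16, 30]), (4, 316, [28, 18, 28])],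
  [(4, 162, [29, 19, 29]), (3, 126, [31, 16, 31]), (3, 117, [31, 16, 31]), (3, 531, [24, 23, 24]), (4, 550, [25, 22, 25]), (3, 163, [29, 19, 29]), (3, 522, [24, 23, 24]), (3, 82, [18]), (4, 560, [25, 22, 25]), (4, 171, [29, 19, 29]), (4, 505, [26, 20, 26]), (4, 603, [31]), (4, 612, [27, 20, 27]), (5, 660, [29]), (4, 172, [29, 19, 29]), (4, 684, [26, 21, 26]), (4, 652, [25, 23, 25]), (5, 335, [19]), (4, 180, [29, 19, 29]), (4, 612, [31]), (4, 497, [27, 21, 27]), (4, 612, [24]), (5, 694, [27, 20, 27]), (4, 181, [29, 19, 29]), (4, 603, [26, 21, 26]), (4, 652, [24, 22, 24]), (5, 344, [19])],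
  [(5, 189, [29, 19, 29]), (4, 369, [31, 16, 31]), (4, 603, [33]), (4, 612, [27]), (5, 678, [29]), (4, 190, [29, 19, 29]), (4, 684, [24, 23, 24]), (4, 652, [27, 21, 27]), (5, 366, [31, 16, 31]), (3, 522, [21]), (4, 109, [16]), (4, 612, [33]), (5, 685, [28, 19, 28]), (5, 361, [19]), (4, 603, [34]), (4, 612, [26]), (4, 603, [35]), (5, 685, [28, 18, 28]), (3, 531, [20]), (4, 603, [32]), (4, 136, [31, 17, 31]), (4, 603, [27]), (5, 679, [22]), (4, 612, [34]), (5, 359, [31, 16, 31]), (4, 612, [35]), (5, 699, [29])],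
  [(5, 216, [29, 19, 29]), (4, 387, [30, 17, 30]), (4, 603, [31, 16, 31]), (4, 612, [24, 23, 24]), (5, 712, [25, 22, 25]), (4, 217, [29, 19, 29]), (4, 603, [24, 23, 24]), (4, 652, [26, 20, 26]), (5, 402, [30, 17, 30]), (3, 531, [25, 23, 25]), (4, 603, [30]), (4, 109, [30, 16, 30]), (4, 603, [25]), (5, 599, [31, 17, 31]), (4, 630, [34]), (5, 516, [25, 23, 25]), (4, 630, [35]), (5, 717, [29]), (3, 522, [25, 23, 25]), (4, 136, [17]), (4, 612, [30]), (5, 599, [31, 16, 31]), (5, 397, [19]), (4, 639, [34]), (4, 612, [25]), (4, 639, [35]), (5, 599, [24, 22, 24])],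
  [(4, 652, [35]), (3, 207, [31, 16, 31]), (3, 198, [31, 16, 31]), (3, 522, [25, 22, 25]), (3, 163, [19]), (4, 560, [24, 23, 24]), (3, 531, [25, 22, 25]), (4, 550, [24, 23, 24]), (3, 82, [28, 18, 28]), (4, 190, [31, 16, 31]), (4, 505, [27, 21, 27]), (4, 684, [31]), (4, 684, [25]), (4, 172, [19]), (5, 416, [18]), (4, 693, [26, 21, 26]), (5, 717, [30]), (4, 412, [30, 16, 30]), (4, 217, [30, 17, 30]), (4, 693, [31]), (4, 497, [26, 20, 26]), (4, 684, [27, 20, 27]), (4, 181, [19]), (5, 425, [18]), (4, 612, [26, 21, 26]), (5, 699, [31]), (4, 412, [31, 17, 31])],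
  [(5, 685, [33]), (4, 450, [31, 16, 31]), (4, 684, [33]), (4, 684, [27]), (4, 190, [19]), (5, 595, [29, 19, 29]), (4, 612, [25, 22, 25]), (5, 717, [30, 17, 30]), (4, 572, [27, 21, 27]), (3, 522, [20]), (4, 190, [16]), (4, 693, [33]), (4, 693, [27]), (4, 684, [34]), (5, 685, [34]), (5, 685, [35]), (5, 442, [18]), (4, 684, [35]), (3, 531, [21]), (4, 684, [32]), (4, 217, [31, 17, 31]), (5, 451, [28, 19, 28]), (4, 693, [34]), (5, 699, [35]), (4, 684, [26]), (5, 685, [26]), (4, 693, [35])],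
  [(5, 189, [30, 16, 30]), (4, 468, [30, 17, 30]), (4, 684, [31, 16, 31]), (4, 684, [25, 22, 25]), (4, 217, [19]), (5, 480, [30, 17, 30]), (4, 693, [25, 22, 25]), (5, 717, [33]), (4, 572, [26, 20, 26]), (3, 531, [24, 22, 24]), (4, 684, [30]), (4, 190, [30, 16, 30]), (5, 679, [31, 16, 31]), (4, 711, [34]), (5, 717, [35]), (4, 684, [24]), (5, 685, [24]), (4, 711, [35]), (3, 522, [24, 22, 24]), (4, 217, [17]), (4, 693, [30]), (4, 693, [24]), (4, 720, [34]), (5, 679, [31, 17, 31]), (5, 516, [24, 22, 24]), (5, 478, [18]), (4, 720, [35])]]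

end CfsgLib.Classical.O8Three
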