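import Mathlib

/-! Certificates: the second level over the root 1. -/

set_option autoImplicit false
set_option maxRecDepth 100000
set_option maxHeartbeats 4000000

namespace CfsgLib.Classical.O8Three

/-- The certificate of each element over the root. -/
def T2R1 : List (List (ℕ × ℕ × List ℕ)) := [
  [(1, 0, [8, 39]), (2, 0, [38]), (2, 0, [39]), (2, 0, [36]), (3, 3, [38]), (3, 3, [39]), (2, 0, [37]), (3, 6, [38]), (3, 6, [39]), (1, 6, []), (2, 9, [38]), (2, 9, [39]), (2, 9, [36]), (3, 12, [38]), (3, 12, [39]), (2, 9, [37]), (3, 15, [38]), (3, 15, [39]), (1, 5, []), (2, 18, [38]), (2, 18, [39]), (2, 18, [36]), (3, 21, [38]), (3, 21, [39]), (2, 18, [37]), (3, 24, [38]), (3, 24, [39])],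
  [(1, 4, []), (2, 27, [38]), (2, 27, [39]), (2, 27, [36]), (3, 30, [38]), (3, 30, [39]), (2, 27, [37]), (3, 33, [38]), (3, 33, [39]), (1, 8, []), (2, 36, [38]), (2, 36, [39]), (2, 36, [36]), (3, 39, [38]), (3, 39, [39]), (2, 36, [37]), (3, 42, [38]), (3, 42, [39]), (1, 10, []), (2, 45, [38]), (2, 45, [39]), (2, 45, [36]), (3, 48, [38]), (3, 48, [39]), (2, 45, [37]), (3, 51, [38]), (3, 51, [39])],
  [(1, 3, []), (2, 54, [38]), (2, 54, [39]), (2, 54, [36]), (3, 57, [38]), (3, 57, [39]), (2, 54, [37]), (3, 60, [38]), (3, 60, [39]), (1, 9, []), (2, 63, [38]), (2, 63, [39]), (2, 63, [36]), (3, 66, [38]), (3, 66, [39]), (2, 63, [37]), (3, 69, [38]), (3, 69, [39]), (1, 7, []), (2, 72, [38]), (2, 72, [39]), (2, 72, [36]), (3, 75, [38]), (3, 75, [39]), (2, 72, [37]), (3, 78, [38]), (3, 78, [39])],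
  [(1, 12, []), (2, 81, [38]), (2, 81, [39]), (2, 81, [36]), (3, 84, [38]), (3, 84, [39]), (2, 81, [37]), (3, 87, [38]), (3, 87, [39]), (2, 81, [27]), (2, 81, [17, 35, 16]), (2, 81, [16, 34, 17]), (3, 84, [27]), (3, 84, [17, 35, 16]), (3, 84, [16, 34, 17]), (3, 87, [27]), (3, 87, [17, 35, 16]), (3, 87, [16, 34, 17]), (2, 81, [26]), (2, 81, [16, 35, 17]), (2, 81, [17, 34, 16]), (3, 84, [26]), (3, 84, [16, 35, 17]), (3, 84, [17, 34, 16]), (3, 87, [26]), (3, 87, [16, 35, 17]), (3, 87, [17, 34, 16])],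
  [(2, 81, [25]), (2, 81, [15, 35, 14]), (2, 81, [14, 34, 15]), (3, 84, [25]), (3, 84, [15, 35, 14]), (3, 84, [14, 34, 15]), (3, 87, [25]), (3, 87, [15, 35, 14]), (3, 87, [14, 34, 15]), (4, 114, [27]), (4, 114, [17, 35, 16]), (4, 114, [16, 34, 17]), (3, 108, [27]), (3, 108, [17, 35, 16]), (3, 108, [16, 34, 17]), (4, 111, [27]), (4, 111, [17, 35, 16]), (4, 111, [16, 34, 17]), (4, 111, [26]), (4, 111, [16, 35, 17]), (4, 111, [17, 34, 16]), (4, 114, [26]), (4, 114, [16, 35, 17]), (4, 114, [17, 34, 16]), (3, 108, [26]), (3, 108, [16, 35, 17]), (3, 108, [17, 34, 16])],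
  [(2, 81, [24]), (2, 81, [14, 35, 15]), (2, 81, [15, 34, 14]), (3, 84, [24]), (3, 84, [14, 35, 15]), (3, 84, [15, 34, 14]), (3, 87, [24]), (3, 87, [14, 35, 15]), (3, 87, [15, 34, 14]), (4, 138, [27]), (4, 138, [17, 35, 16]), (4, 138, [16, 34, 17]), (4, 141, [27]), (4, 141, [17, 35, 16]), (4, 141, [16, 34, 17]), (3, 135, [27]), (3, 135, [17, 35, 16]), (3, 135, [16, 34, 17]), (4, 141, [26]), (4, 141, [16, 35, 17]), (4, 141, [17, 34, 16]), (3, 135, [26]), (3, 135, [16, 35, 17]), (3, 135, [17, 34, 16]), (4, 138, [26]), (4, 138, [16, 35, 17]), (4, 138, [17, 34, 16])],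
  [(3, 567, [28, 18, 28]), (4, 572, [28, 18, 28]), (4, 574, [28, 18, 28]), (4, 573, [28, 18, 28]), (4, 569, [28, 18, 28]), (4, 325, [29, 19, 29]), (4, 570, [28, 18, 28]), (4, 326, [29, 19, 29]), (4, 568, [28, 18, 28]), (3, 648, [14, 26, 15]), (4, 652, [14, 26, 15]), (4, 656, [14, 26, 15]), (4, 651, [14, 26, 15]), (4, 406, [15, 26, 14]), (4, 650, [14, 26, 15]), (4, 654, [14, 26, 15]), (4, 649, [14, 26, 15]), (4, 407, [15, 26, 14]), (3, 648, [15, 27, 14]), (4, 652, [15, 27, 14]), (4, 656, [15, 27, 14]), (4, 651, [15, 27, 14]), (4, 406, [14, 27, 15]), (4, 650, [15, 27, 14]), (4, 654, [15, 27, 14]), (4, 649, [15, 27, 14]), (4, 407, [14, 27, 15])],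
  [(3, 648, [16, 24, 17]), (4, 652, [16, 24, 17]), (4, 656, [16, 24, 17]), (4, 651, [16, 24, 17]), (4, 406, [17, 24, 16]), (4, 650, [16, 24, 17]), (4, 654, [16, 24, 17]), (4, 649, [16, 24, 17]), (4, 407, [17, 24, 16]), (5, 678, [14, 26, 15]), (5, 664, [16, 24, 17]), (5, 422, [17, 24, 16]), (5, 681, [14, 26, 15]), (5, 418, [17, 24, 16]), (5, 662, [16, 24, 17]), (4, 657, [16, 24, 17]), (4, 679, [14, 26, 15]), (4, 171, [14, 35, 15]), (5, 681, [15, 27, 14]), (5, 427, [17, 24, 16]), (5, 671, [16, 24, 17]), (4, 666, [16, 24, 17]), (4, 180, [15, 34, 14]), (4, 180, [14, 35, 15]), (5, 678, [15, 27, 14]), (5, 673, [16, 24, 17]), (5, 431, [17, 24, 16])],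
  [(3, 648, [17, 25, 16]), (4, 652, [17, 25, 16]), (4, 656, [17, 25, 16]), (4, 651, [17, 25, 16]), (4, 406, [16, 25, 17]), (4, 650, [17, 25, 16]), (4, 654, [17, 25, 16]), (4, 649, [17, 25, 16]), (4, 407, [16, 25, 17]), (5, 708, [14, 26, 15]), (5, 418, [16, 25, 17]), (5, 662, [17, 25, 16]), (4, 657, [17, 25, 16]), (4, 171, [14, 34, 15]), (4, 710, [14, 26, 15]), (5, 705, [14, 26, 15]), (5, 664, [17, 25, 16]), (5, 422, [16, 25, 17]), (5, 705, [15, 27, 14]), (5, 673, [17, 25, 16]), (5, 431, [16, 25, 17]), (5, 708, [15, 27, 14]), (5, 427, [16, 25, 17]), (5, 671, [17, 25, 16]), (4, 666, [17, 25, 16]), (4, 180, [14, 34, 15]), (4, 180, [15, 35, 14])],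
  [(2, 81, [28, 19, 28]), (3, 87, [28, 19, 28]), (3, 84, [28, 19, 28]), (3, 82, [28, 19, 28]), (4, 88, [28, 19, 28]), (4, 85, [28, 19, 28]), (3, 83, [28, 19, 28]), (4, 89, [28, 19, 28]), (4, 86, [28, 19, 28]), (3, 324, [21, 33, 20]), (4, 96, [28, 19, 28]), (4, 93, [28, 19, 28]), (3, 91, [28, 19, 28]), (4, 408, [20, 33, 21]), (4, 327, [21, 33, 20]), (3, 92, [28, 19, 28]), (4, 330, [21, 33, 20]), (4, 411, [20, 33, 21]), (3, 324, [20, 32, 21]), (4, 105, [28, 19, 28]), (4, 102, [28, 19, 28]), (3, 100, [28, 19, 28]), (4, 408, [21, 32, 20]), (4, 327, [20, 32, 21]), (3, 101, [28, 19, 28]), (4, 330, [20, 32, 21]), (4, 411, [21, 32, 20])],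
  [(3, 108, [28, 19, 28]), (4, 114, [28, 19, 28]), (4, 111, [28, 19, 28]), (3, 109, [28, 19, 28]), (4, 115, [28, 19, 28]), (4, 112, [28, 19, 28]), (3, 243, [21, 34, 20]), (4, 244, [21, 34, 20]), (4, 245, [21, 34, 20]), (4, 352, [21, 33, 20]), (4, 353, [21, 33, 20]), (3, 351, [21, 33, 20]), (5, 356, [21, 33, 20]), (4, 354, [21, 33, 20]), (4, 355, [21, 33, 20]), (4, 357, [21, 33, 20]), (5, 358, [21, 33, 20]), (4, 359, [21, 33, 20]), (4, 353, [20, 32, 21]), (3, 351, [20, 32, 21]), (4, 352, [20, 32, 21]), (4, 354, [20, 32, 21]), (4, 355, [20, 32, 21]), (5, 356, [20, 32, 21]), (5, 358, [20, 32, 21]), (4, 359, [20, 32, 21]), (4, 357, [20, 32, 21])],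
  [(3, 135, [28, 19, 28]), (4, 141, [28, 19, 28]), (4, 138, [28, 19, 28]), (3, 243, [21, 35, 20]), (4, 244, [21, 35, 20]), (4, 245, [21, 35, 20]), (3, 137, [28, 19, 28]), (4, 143, [28, 19, 28]), (4, 140, [28, 19, 28]), (4, 380, [21, 33, 20]), (3, 378, [21, 33, 20]), (4, 379, [21, 33, 20]), (4, 381, [21, 33, 20]), (4, 382, [21, 33, 20]), (5, 383, [21, 33, 20]), (5, 385, [21, 33, 20]), (4, 386, [21, 33, 20]), (4, 384, [21, 33, 20]), (4, 379, [20, 32, 21]), (4, 380, [20, 32, 21]), (3, 378, [20, 32, 21]), (5, 383, [20, 32, 21]), (4, 381, [20, 32, 21]), (4, 382, [20, 32, 21]), (4, 384, [20, 32, 21]), (5, 385, [20, 32, 21]), (4, 386, [20, 32, 21])],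
  [(2, 81, [19]), (3, 324, [38]), (3, 324, [39]), (3, 84, [19]), (3, 82, [19]), (4, 89, [19]), (3, 87, [19]), (4, 330, [38]), (3, 83, [19]), (2, 81, [14, 27, 15]), (3, 333, [38]), (3, 333, [39]), (3, 84, [14, 27, 15]), (3, 82, [14, 27, 15]), (4, 89, [14, 27, 15]), (3, 87, [14, 27, 15]), (4, 339, [38]), (3, 83, [14, 27, 15]), (2, 81, [15, 26, 14]), (3, 342, [38]), (3, 342, [39]), (3, 84, [15, 26, 14]), (3, 82, [15, 26, 14]), (4, 89, [15, 26, 14]), (3, 87, [15, 26, 14]), (4, 348, [38]), (3, 83, [15, 26, 14])],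
  [(2, 81, [16, 25, 17]), (3, 351, [38]), (3, 351, [39]), (3, 84, [16, 25, 17]), (3, 82, [16, 25, 17]), (4, 89, [16, 25, 17]), (3, 87, [16, 25, 17]), (4, 357, [38]), (3, 83, [16, 25, 17]), (4, 114, [14, 27, 15]), (4, 112, [14, 27, 15]), (3, 333, [31]), (3, 108, [14, 27, 15]), (4, 115, [14, 27, 15]), (4, 336, [31]), (4, 111, [14, 27, 15]), (3, 109, [14, 27, 15]), (4, 339, [31]), (4, 111, [15, 26, 14]), (3, 342, [31]), (4, 348, [14, 34, 15]), (4, 114, [15, 26, 14]), (4, 345, [31]), (3, 342, [14, 34, 15]), (3, 108, [15, 26, 14]), (4, 348, [31]), (4, 345, [14, 34, 15])],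
  [(2, 81, [17, 24, 16]), (3, 378, [38]), (3, 378, [39]), (3, 84, [17, 24, 16]), (3, 82, [17, 24, 16]), (4, 89, [17, 24, 16]), (3, 87, [17, 24, 16]), (4, 384, [38]), (3, 83, [17, 24, 16]), (4, 138, [14, 27, 15]), (3, 333, [30]), (4, 143, [14, 27, 15]), (4, 141, [14, 27, 15]), (4, 336, [30]), (3, 137, [14, 27, 15]), (3, 135, [14, 27, 15]), (4, 339, [30]), (4, 140, [14, 27, 15]), (4, 141, [15, 26, 14]), (4, 345, [14, 35, 15]), (3, 342, [30]), (3, 135, [15, 26, 14]), (4, 348, [14, 35, 15]), (4, 345, [30]), (4, 138, [15, 26, 14]), (3, 342, [14, 35, 15]), (4, 348, [30])],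
  [(2, 81, [29, 19, 29]), (3, 405, [38]), (3, 405, [39]), (3, 87, [29, 19, 29]), (4, 408, [38]), (3, 82, [29, 19, 29]), (3, 84, [29, 19, 29]), (3, 83, [29, 19, 29]), (4, 88, [29, 19, 29]), (3, 324, [20, 33, 21]), (4, 244, [21, 33, 20]), (4, 245, [21, 33, 20]), (4, 96, [29, 19, 29]), (4, 327, [20, 33, 21]), (3, 405, [16, 35, 17]), (4, 93, [29, 19, 29]), (3, 405, [17, 34, 16]), (4, 330, [20, 33, 21]), (3, 324, [21, 32, 20]), (4, 244, [20, 32, 21]), (4, 245, [20, 32, 21]), (4, 105, [29, 19, 29]), (4, 327, [21, 32, 20]), (3, 405, [17, 35, 16]), (4, 102, [29, 19, 29]), (3, 405, [16, 34, 17]), (4, 330, [21, 32, 20])],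
  [(3, 108, [29, 19, 29]), (4, 408, [15, 34, 14]), (4, 411, [14, 35, 15]), (4, 114, [29, 19, 29]), (4, 411, [15, 34, 14]), (3, 405, [14, 35, 15]), (4, 111, [29, 19, 29]), (3, 405, [15, 34, 14]), (4, 408, [14, 35, 15]), (4, 352, [20, 33, 21]), (4, 353, [20, 33, 21]), (3, 351, [20, 33, 21]), (4, 354, [20, 33, 21]), (4, 355, [20, 33, 21]), (4, 443, [36]), (4, 359, [20, 33, 21]), (4, 357, [20, 33, 21]), (4, 443, [37]), (4, 353, [21, 32, 20]), (3, 351, [21, 32, 20]), (4, 352, [21, 32, 20]), (4, 355, [21, 32, 20]), (4, 451, [36]), (4, 354, [21, 32, 20]), (4, 357, [21, 32, 20]), (4, 451, [37]), (4, 359, [21, 32, 20])],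
  [(3, 135, [29, 19, 29]), (4, 408, [14, 34, 15]), (4, 411, [15, 35, 14]), (4, 141, [29, 19, 29]), (4, 411, [14, 34, 15]), (3, 405, [15, 35, 14]), (4, 138, [29, 19, 29]), (3, 405, [14, 34, 15]), (4, 408, [15, 35, 14]), (4, 380, [20, 33, 21]), (3, 378, [20, 33, 21]), (4, 379, [20, 33, 21]), (4, 382, [20, 33, 21]), (4, 469, [36]), (4, 381, [20, 33, 21]), (4, 384, [20, 33, 21]), (4, 469, [37]), (4, 386, [20, 33, 21]), (4, 379, [21, 32, 20]), (4, 380, [21, 32, 20]), (3, 378, [21, 32, 20]), (4, 381, [21, 32, 20]), (4, 382, [21, 32, 20]), (4, 479, [36]), (4, 386, [21, 32, 20]), (4, 384, [21, 32, 20]), (4, 479, [37])],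
  [(2, 81, [29, 18, 29]), (3, 84, [29, 18, 29]), (3, 87, [29, 18, 29]), (3, 83, [29, 18, 29]), (4, 86, [29, 18, 29]), (4, 89, [29, 18, 29]), (3, 82, [29, 18, 29]), (4, 85, [29, 18, 29]), (4, 88, [29, 18, 29]), (3, 567, [21, 32, 20]), (4, 93, [29, 18, 29]), (4, 96, [29, 18, 29]), (3, 92, [29, 18, 29]), (4, 570, [21, 32, 20]), (4, 651, [20, 32, 21]), (3, 91, [29, 18, 29]), (4, 654, [20, 32, 21]), (4, 573, [21, 32, 20]), (3, 567, [20, 33, 21]), (4, 102, [29, 18, 29]), (4, 105, [29, 18, 29]), (3, 101, [29, 18, 29]), (4, 570, [20, 33, 21]), (4, 651, [21, 33, 20]), (3, 100, [29, 18, 29]), (4, 654, [21, 33, 20]), (4, 573, [20, 33, 21])],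
  [(3, 108, [29, 18, 29]), (4, 111, [29, 18, 29]), (4, 114, [29, 18, 29]), (3, 110, [29, 18, 29]), (4, 113, [29, 18, 29]), (4, 116, [29, 18, 29]), (3, 486, [21, 35, 20]), (4, 487, [21, 35, 20]), (4, 488, [21, 35, 20]), (4, 596, [21, 32, 20]), (3, 594, [21, 32, 20]), (4, 595, [21, 32, 20]), (5, 598, [21, 32, 20]), (4, 599, [21, 32, 20]), (4, 597, [21, 32, 20]), (4, 600, [21, 32, 20]), (4, 601, [21, 32, 20]), (5, 602, [21, 32, 20]), (4, 595, [20, 33, 21]), (4, 596, [20, 33, 21]), (3, 594, [20, 33, 21]), (4, 597, [20, 33, 21]), (5, 598, [20, 33, 21]), (4, 599, [20, 33, 21]), (5, 602, [20, 33, 21]), (4, 600, [20, 33, 21]), (4, 601, [20, 33, 21])],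
  [(3, 135, [29, 18, 29]), (4, 138, [29, 18, 29]), (4, 141, [29, 18, 29]), (3, 486, [21, 34, 20]), (4, 487, [21, 34, 20]), (4, 488, [21, 34, 20]), (3, 136, [29, 18, 29]), (4, 139, [29, 18, 29]), (4, 142, [29, 18, 29]), (4, 622, [21, 32, 20]), (4, 623, [21, 32, 20]), (3, 621, [21, 32, 20]), (4, 624, [21, 32, 20]), (5, 625, [21, 32, 20]), (4, 626, [21, 32, 20]), (5, 629, [21, 32, 20]), (4, 627, [21, 32, 20]), (4, 628, [21, 32, 20]), (4, 623, [20, 33, 21]), (3, 621, [20, 33, 21]), (4, 622, [20, 33, 21]), (5, 625, [20, 33, 21]), (4, 626, [20, 33, 21]), (4, 624, [20, 33, 21]), (4, 627, [20, 33, 21]), (4, 628, [20, 33, 21]), (5, 629, [20, 33, 21])],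
  [(2, 81, [18]), (3, 567, [38]), (3, 567, [39]), (3, 84, [18]), (4, 88, [18]), (3, 83, [18]), (3, 87, [18]), (3, 82, [18]), (4, 573, [39]), (2, 81, [15, 27, 14]), (3, 576, [38]), (3, 576, [39]), (3, 84, [15, 27, 14]), (4, 88, [15, 27, 14]), (3, 83, [15, 27, 14]), (3, 87, [15, 27, 14]), (3, 82, [15, 27, 14]), (4, 582, [39]), (2, 81, [14, 26, 15]), (3, 585, [38]), (3, 585, [39]), (3, 84, [14, 26, 15]), (4, 88, [14, 26, 15]), (3, 83, [14, 26, 15]), (3, 87, [14, 26, 15]), (3, 82, [14, 26, 15]), (4, 591, [39])],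
  [(2, 81, [17, 25, 16]), (3, 594, [38]), (3, 594, [39]), (3, 84, [17, 25, 16]), (4, 88, [17, 25, 16]), (3, 83, [17, 25, 16]), (3, 87, [17, 25, 16]), (3, 82, [17, 25, 16]), (4, 600, [39]), (4, 114, [15, 27, 14]), (3, 576, [30]), (4, 579, [14, 34, 15]), (3, 108, [15, 27, 14]), (4, 579, [30]), (4, 582, [14, 34, 15]), (4, 111, [15, 27, 14]), (4, 582, [30]), (3, 576, [14, 34, 15]), (4, 111, [14, 26, 15]), (4, 115, [14, 26, 15]), (3, 585, [30]), (4, 114, [14, 26, 15]), (3, 109, [14, 26, 15]), (4, 588, [30]), (3, 108, [14, 26, 15]), (4, 112, [14, 26, 15]), (4, 591, [30])],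
  [(2, 81, [16, 24, 17]), (3, 621, [38]), (3, 621, [39]), (3, 84, [16, 24, 17]), (4, 88, [16, 24, 17]), (3, 83, [16, 24, 17]), (3, 87, [16, 24, 17]), (3, 82, [16, 24, 17]), (4, 627, [39]), (4, 138, [15, 27, 14]), (4, 582, [14, 35, 15]), (3, 576, [31]), (4, 141, [15, 27, 14]), (3, 576, [14, 35, 15]), (4, 579, [31]), (3, 135, [15, 27, 14]), (4, 579, [14, 35, 15]), (4, 582, [31]), (4, 141, [14, 26, 15]), (3, 585, [31]), (4, 140, [14, 26, 15]), (3, 135, [14, 26, 15]), (4, 588, [31]), (4, 143, [14, 26, 15]), (4, 138, [14, 26, 15]), (4, 591, [31]), (3, 137, [14, 26, 15])],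
  [(2, 81, [28, 18, 28]), (3, 648, [38]), (3, 648, [39]), (3, 87, [28, 18, 28]), (3, 83, [28, 18, 28]), (4, 651, [39]), (3, 84, [28, 18, 28]), (4, 89, [28, 18, 28]), (3, 82, [28, 18, 28]), (3, 567, [20, 32, 21]), (4, 654, [17, 34, 16]), (4, 651, [16, 35, 17]), (4, 96, [28, 18, 28]), (3, 648, [17, 34, 16]), (4, 570, [20, 32, 21]), (4, 93, [28, 18, 28]), (4, 573, [20, 32, 21]), (3, 648, [16, 35, 17]), (3, 567, [21, 33, 20]), (4, 654, [16, 34, 17]), (4, 651, [17, 35, 16]), (4, 105, [28, 18, 28]), (3, 648, [16, 34, 17]), (4, 570, [21, 33, 20]), (4, 102, [28, 18, 28]), (4, 573, [21, 33, 20]), (3, 648, [17, 35, 16])],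
  [(3, 108, [28, 18, 28]), (4, 654, [15, 34, 14]), (4, 651, [14, 35, 15]), (4, 114, [28, 18, 28]), (3, 648, [15, 34, 14]), (4, 654, [14, 35, 15]), (4, 111, [28, 18, 28]), (4, 651, [15, 34, 14]), (3, 648, [14, 35, 15]), (4, 596, [20, 32, 21]), (3, 594, [20, 32, 21]), (4, 595, [20, 32, 21]), (4, 597, [20, 32, 21]), (4, 685, [36]), (4, 599, [20, 32, 21]), (4, 601, [20, 32, 21]), (4, 685, [37]), (4, 600, [20, 32, 21]), (4, 595, [21, 33, 20]), (4, 596, [21, 33, 20]), (3, 594, [21, 33, 20]), (4, 599, [21, 33, 20]), (4, 597, [21, 33, 20]), (4, 695, [36]), (4, 600, [21, 33, 20]), (4, 601, [21, 33, 20]), (4, 695, [37])],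
  [(3, 135, [28, 18, 28]), (4, 654, [14, 34, 15]), (4, 651, [15, 35, 14]), (4, 141, [28, 18, 28]), (3, 648, [14, 34, 15]), (4, 654, [15, 35, 14]), (4, 138, [28, 18, 28]), (4, 651, [14, 34, 15]), (3, 648, [15, 35, 14]), (4, 622, [20, 32, 21]), (4, 623, [20, 32, 21]), (3, 621, [20, 32, 21]), (4, 626, [20, 32, 21]), (4, 624, [20, 32, 21]), (4, 713, [36]), (4, 627, [20, 32, 21]), (4, 628, [20, 32, 21]), (4, 713, [37]), (4, 623, [21, 33, 20]), (3, 621, [21, 33, 20]), (4, 622, [21, 33, 20]), (4, 624, [21, 33, 20]), (4, 721, [36]), (4, 626, [21, 33, 20]), (4, 628, [21, 33, 20]), (4, 721, [37]), (4, 627, [21, 33, 20])]]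

end CfsgLib.Classical.O8Three
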