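import Mathlib

/-! Certificates: the second level over the root 702. -/

set_option autoImplicit false
set_option maxRecDepth 100000
set_option maxHeartbeats 4000000

namespace CfsgLib.Classical.O8Three

/-- The certificate of each element over the root. -/
def T2R12 : List (List (ℕ × ℕ × List ℕ)) := [
  [(0, 49, []), (0, 49, []), (0, 49, []), (0, 49, []), (0, 49, []), (0, 49, []), (0, 49, []), (0, 49, []), (0, 49, []), (0, 40, []), (0, 40, []), (0, 40, []), (0, 40, []), (0, 40, []), (0, 40, []), (0, 40, []), (0, 40, []), (0, 40, []), (0, 40, []), (0, 40, []), (0, 40, []), (0, 40, []), (0, 40, []), (0, 40, []), (0, 40, []), (0, 40, []), (0, 40, [])],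
  [(0, 40, []), (0, 40, []), (0, 40, []), (0, 40, []), (0, 40, []), (0, 40, []), (0, 40, []), (0, 40, []), (0, 40, []), (0, 40, []), (0, 40, []), (0, 40, []), (0, 40, []), (0, 40, []), (0, 40, []), (0, 40, []), (0, 40, []), (0, 40, []), (0, 49, []), (0, 49, []), (0, 49, []), (0, 49, []), (0, 49, []), (0, 49, []), (0, 49, []), (0, 49, []), (0, 49, [])],
  [(0, 40, []), (0, 40, []), (0, 40, []), (0, 40, []), (0, 40, []), (0, 40, []), (0, 40, []), (0, 40, []), (0, 40, []), (0, 49, []), (0, 49, []), (0, 49, []), (0, 49, []), (0, 49, []), (0, 49, []), (0, 49, []), (0, 49, []), (0, 49, []), (0, 40, []), (0, 40, []), (0, 40, []), (0, 40, []), (0, 40, []), (0, 40, []), (0, 40, []), (0, 40, []), (0, 40, [])],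
  [(0, 48, []), (0, 48, []), (0, 48, []), (0, 48, []), (0, 48, []), (0, 48, []), (0, 48, []), (0, 48, []), (0, 48, []), (0, 40, []), (0, 40, []), (0, 40, []), (0, 40, []), (0, 40, []), (0, 40, []), (0, 40, []), (0, 40, []), (0, 40, []), (0, 40, []), (0, 40, []), (0, 40, []), (0, 40, []), (0, 40, []), (0, 40, []), (0, 40, []), (0, 40, []), (0, 40, [])],
  [(0, 40, []), (0, 40, []), (0, 40, []), (0, 40, []), (0, 40, []), (0, 40, []), (0, 40, []), (0, 40, []), (0, 40, []), (0, 40, []), (0, 40, []), (0, 40, []), (0, 40, []), (0, 40, []), (0, 40, []), (0, 40, []), (0, 40, []), (0, 40, []), (0, 48, []), (0, 48, []), (0, 48, []), (0, 48, []), (0, 48, []), (0, 48, []), (0, 48, []), (0, 48, []), (0, 48, [])],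
  [(0, 40, []), (0, 40, []), (0, 40, []), (0, 40, []), (0, 40, []), (0, 40, []), (0, 40, []), (0, 40, []), (0, 40, []), (0, 48, []), (0, 48, []), (0, 48, []), (0, 48, []), (0, 48, []), (0, 48, []), (0, 48, []), (0, 48, []), (0, 48, []), (0, 40, []), (0, 40, []), (0, 40, []), (0, 40, []), (0, 40, []), (0, 40, []), (0, 40, []), (0, 40, []), (0, 40, [])],
  [(0, 48, []), (0, 48, []), (0, 48, []), (0, 48, []), (0, 48, []), (0, 48, []), (0, 48, []), (0, 48, []), (0, 48, []), (0, 40, []), (0, 40, []), (0, 40, []), (0, 40, []), (0, 40, []), (0, 40, []), (0, 40, []), (0, 40, []), (0, 40, []), (0, 40, []), (0, 40, []), (0, 40, []), (0, 40, []), (0, 40, []), (0, 40, []), (0, 40, []), (0, 40, []), (0, 40, [])],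
  [(0, 40, []), (0, 40, []), (0, 40, []), (0, 40, []), (0, 40, []), (0, 40, []), (0, 40, []), (0, 40, []), (0, 40, []), (0, 40, []), (0, 40, []), (0, 40, []), (0, 40, []), (0, 40, []), (0, 40, []), (0, 40, []), (0, 40, []), (0, 40, []), (0, 48, []), (0, 48, []), (0, 48, []), (0, 48, []), (0, 48, []), (0, 48, []), (0, 48, []), (0, 48, []), (0, 48, [])],
  [(0, 40, []), (0, 40, []), (0, 40, []), (0, 40, []), (0, 40, []), (0, 40, []), (0, 40, []), (0, 40, []), (0, 40, []), (0, 48, []), (0, 48, []), (0, 48, []), (0, 48, []), (0, 48, []), (0, 48, []), (0, 48, []), (0, 48, []), (0, 48, []), (0, 40, []), (0, 40, []), (0, 40, []), (0, 40, []), (0, 40, []), (0, 40, []), (0, 40, []), (0, 40, []), (0, 40, [])],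
  [(0, 24, []), (0, 24, []), (0, 24, []), (0, 24, []), (0, 24, []), (0, 24, []), (0, 24, []), (0, 24, []), (0, 24, []), (0, 24, []), (0, 24, []), (0, 24, []), (0, 24, []), (0, 24, []), (0, 24, []), (0, 24, []), (0, 24, []), (0, 24, []), (0, 24, []), (0, 24, []), (0, 24, []), (0, 24, []), (0, 24, []), (0, 24, []), (0, 24, []), (0, 24, []), (0, 24, [])],
  [(0, 24, []), (0, 24, []), (0, 24, []), (0, 24, []), (0, 24, []), (0, 24, []), (0, 24, []), (0, 24, []), (0, 24, []), (0, 24, []), (0, 24, []), (0, 24, []), (0, 24, []), (0, 24, []), (0, 24, []), (0, 24, []), (0, 24, []), (0, 24, []), (0, 24, []), (0, 24, []), (0, 24, []), (0, 24, []), (0, 24, []), (0, 24, []), (0, 24, []), (0, 24, []), (0, 24, [])],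
  [(0, 24, []), (0, 24, []), (0, 24, []), (0, 24, []), (0, 24, []), (0, 24, []), (0, 24, []), (0, 24, []), (0, 24, []), (0, 24, []), (0, 24, []), (0, 24, []), (0, 24, []), (0, 24, []), (0, 24, []), (0, 24, []), (0, 24, []), (0, 24, []), (0, 24, []), (0, 24, []), (0, 24, []), (0, 24, []), (0, 24, []), (0, 24, []), (0, 24, []), (0, 24, []), (0, 24, [])],
  [(0, 24, []), (0, 24, []), (0, 24, []), (0, 24, []), (0, 24, []), (0, 24, []), (0, 24, []), (0, 24, []), (0, 24, []), (0, 24, []), (0, 24, []), (0, 24, []), (0, 24, []), (0, 24, []), (0, 24, []), (0, 24, []), (0, 24, []), (0, 24, []), (0, 24, []), (0, 24, []), (0, 24, []), (0, 24, []), (0, 24, []), (0, 24, []), (0, 24, []), (0, 24, []), (0, 24, [])],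
  [(0, 24, []), (0, 24, []), (0, 24, []), (0, 24, []), (0, 24, []), (0, 24, []), (0, 24, []), (0, 24, []), (0, 24, []), (0, 24, []), (0, 24, []), (0, 24, []), (0, 24, []), (0, 24, []), (0, 24, []), (0, 24, []), (0, 24, []), (0, 24, []), (0, 24, []), (0, 24, []), (0, 24, []), (0, 24, []), (0, 24, []), (0, 24, []), (0, 24, []), (0, 24, []), (0, 24, [])],
  [(0, 24, []), (0, 24, []), (0, 24, []), (0, 24, []), (0, 24, []), (0, 24, []), (0, 24, []), (0, 24, []), (0, 24, []), (0, 24, []), (0, 24, []), (0, 24, []), (0, 24, []), (0, 24, []), (0, 24, []), (0, 24, []), (0, 24, []), (0, 24, []), (0, 24, []), (0, 24, []), (0, 24, []), (0, 24, []), (0, 24, []), (0, 24, []), (0, 24, []), (0, 24, []), (0, 24, [])],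
  [(0, 24, []), (0, 24, []), (0, 24, []), (0, 24, []), (0, 24, []), (0, 24, []), (0, 24, []), (0, 24, []), (0, 24, []), (0, 24, []), (0, 24, []), (0, 24, []), (0, 24, []), (0, 24, []), (0, 24, []), (0, 24, []), (0, 24, []), (0, 24, []), (0, 24, []), (0, 24, []), (0, 24, []), (0, 24, []), (0, 24, []), (0, 24, []), (0, 24, []), (0, 24, []), (0, 24, [])],
  [(0, 24, []), (0, 24, []), (0, 24, []), (0, 24, []), (0, 24, []), (0, 24, []), (0, 24, []), (0, 24, []), (0, 24, []), (0, 24, []), (0, 24, []), (0, 24, []), (0, 24, []), (0, 24, []), (0, 24, []), (0, 24, []), (0, 24, []), (0, 24, []), (0, 24, []), (0, 24, []), (0, 24, []), (0, 24, []), (0, 24, []), (0, 24, []), (0, 24, []), (0, 24, []), (0, 24, [])],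
  [(0, 24, []), (0, 24, []), (0, 24, []), (0, 24, []), (0, 24, []), (0, 24, []), (0, 24, []), (0, 24, []), (0, 24, []), (0, 24, []), (0, 24, []), (0, 24, []), (0, 24, []), (0, 24, []), (0, 24, []), (0, 24, []), (0, 24, []), (0, 24, []), (0, 24, []), (0, 24, []), (0, 24, []), (0, 24, []), (0, 24, []), (0, 24, []), (0, 24, []), (0, 24, []), (0, 24, [])],
  [(0, 24, []), (0, 24, []), (0, 24, []), (0, 24, []), (0, 24, []), (0, 24, []), (0, 24, []), (0, 24, []), (0, 24, []), (0, 24, []), (0, 24, []), (0, 24, []), (0, 24, []), (0, 24, []), (0, 24, []), (0, 24, []), (0, 24, []), (0, 24, []), (0, 24, []), (0, 24, []), (0, 24, []), (0, 24, []), (0, 24, []), (0, 24, []), (0, 24, []), (0, 24, []), (0, 24, [])],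
  [(0, 24, []), (0, 24, []), (0, 24, []), (0, 24, []), (0, 24, []), (0, 24, []), (0, 24, []), (0, 24, []), (0, 24, []), (0, 24, []), (0, 24, []), (0, 24, []), (0, 24, []), (0, 24, []), (0, 24, []), (0, 24, []), (0, 24, []), (0, 24, []), (0, 24, []), (0, 24, []), (0, 24, []), (0, 24, []), (0, 24, []), (0, 24, []), (0, 24, []), (0, 24, []), (0, 24, [])],
  [(0, 24, []), (0, 24, []), (0, 24, []), (0, 24, []), (0, 24, []), (0, 24, []), (0, 24, []), (0, 24, []), (0, 24, []), (0, 24, []), (0, 24, []), (0, 24, []), (0, 24, []), (0, 24, []), (0, 24, []), (0, 24, []), (0, 24, []), (0, 24, []), (0, 24, []), (0, 24, []), (0, 24, []), (0, 24, []), (0, 24, []), (0, 24, []), (0, 24, []), (0, 24, []), (0, 24, [])],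
  [(0, 24, []), (0, 24, []), (0, 24, []), (0, 24, []), (0, 24, []), (0, 24, []), (0, 24, []), (0, 24, []), (0, 24, []), (0, 24, []), (0, 24, []), (0, 24, []), (0, 24, []), (0, 24, []), (0, 24, []), (0, 24, []), (0, 24, []), (0, 24, []), (0, 24, []), (0, 24, []), (0, 24, []), (0, 24, []), (0, 24, []), (0, 24, []), (0, 24, []), (0, 24, []), (0, 24, [])],
  [(0, 24, []), (0, 24, []), (0, 24, []), (0, 24, []), (0, 24, []), (0, 24, []), (0, 24, []), (0, 24, []), (0, 24, []), (0, 24, []), (0, 24, []), (0, 24, []), (0, 24, []), (0, 24, []), (0, 24, []), (0, 24, []), (0, 24, []), (0, 24, []), (0, 24, []), (0, 24, []), (0, 24, []), (0, 24, []), (0, 24, []), (0, 24, []), (0, 24, []), (0, 24, []), (0, 24, [])],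
  [(0, 24, []), (0, 24, []), (0, 24, []), (0, 24, []), (0, 24, []), (0, 24, []), (0, 24, []), (0, 24, []), (0, 24, []), (0, 24, []), (0, 24, []), (0, 24, []), (0, 24, []), (0, 24, []), (0, 24, []), (0, 24, []), (0, 24, []), (0, 24, []), (0, 24, []), (0, 24, []), (0, 24, []), (0, 24, []), (0, 24, []), (0, 24, []), (0, 24, []), (0, 24, []), (0, 24, [])],
  [(0, 24, []), (0, 24, []), (0, 24, []), (0, 24, []), (0, 24, []), (0, 24, []), (0, 24, []), (0, 24, []), (0, 24, []), (0, 24, []), (0, 24, []), (0, 24, []), (0, 24, []), (0, 24, []), (0, 24, []), (0, 24, []), (0, 24, []), (0, 24, []), (0, 24, []), (0, 24, []), (0, 24, []), (0, 24, []), (0, 24, []), (0, 24, []), (0, 24, []), (0, 24, []), (0, 24, [])],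
  [(0, 24, []), (0, 24, []), (0, 24, []), (0, 24, []), (0, 24, []), (0, 24, []), (0, 24, []), (0, 24, []), (0, 24, []), (0, 24, []), (0, 24, []), (0, 24, []), (0, 24, []), (0, 24, []), (0, 24, []), (0, 24, []), (0, 24, []), (0, 24, []), (0, 24, []), (0, 24, []), (0, 24, []), (0, 24, []), (0, 24, []), (0, 24, []), (0, 24, []), (0, 24, []), (0, 24, [])],
  [(0, 24, []), (0, 24, []), (0, 24, []), (0, 24, []), (0, 24, []), (0, 24, []), (0, 24, []), (0, 24, []), (0, 24, []), (0, 24, []), (0, 24, []), (0, 24, []), (0, 24, []), (0, 24, []), (0, 24, []), (0, 24, []), (0, 24, []), (0, 24, []), (0, 24, []), (0, 24, []), (0, 24, []), (0, 24, []), (0, 24, []), (0, 24, []), (0, 24, []), (0, 24, []), (0, 24, [])]]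

end CfsgLib.Classical.O8Three
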