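import Mathlib

/-! Certificates: the second level over the root 12. -/

set_option autoImplicit false
set_option maxRecDepth 100000
set_option maxHeartbeats 4000000

namespace CfsgLib.Classical.O8Three

/-- The certificate of each element over the root. -/
def T2R2 : List (List (ℕ × ℕ × List ℕ)) := [
  [(1, 1, [10, 37]), (2, 0, [41]), (2, 0, [40]), (1, 7, [36, 11, 36]), (2, 3, [41]), (2, 3, [40]), (1, 8, [37, 10, 37]), (2, 6, [41]), (2, 6, [40]), (1, 12, [3, 27, 20, 27, 40, 6, 40, 10]), (2, 9, [41]), (2, 9, [40]), (2, 9, [25, 26]), (3, 10, [25, 26]), (3, 11, [25, 26]), (2, 9, [24, 27]), (3, 10, [24, 27]), (3, 11, [24, 27]), (4, 57, [21, 26, 22, 25]), (4, 58, [21, 26, 22, 25]), (4, 218, [24, 23, 27, 20]), (4, 60, [20, 26, 23, 25]), (4, 58, [21, 22]), (4, 137, [24, 23, 27, 20]), (4, 54, [24, 23, 27, 20]), (4, 55, [24, 23, 27, 20]), (3, 56, [24, 23, 27, 20])],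
  [(3, 171, [24, 23, 27, 20]), (3, 33, [18, 24, 32, 19]), (3, 33, [19, 24, 33, 18]), (3, 90, [24, 23, 27, 20]), (3, 33, [19, 25, 32, 18]), (3, 33, [18, 25, 33, 19]), (2, 9, [24, 23, 27, 20]), (3, 10, [24, 23, 27, 20]), (3, 11, [24, 23, 27, 20]), (3, 37, [40]), (2, 0, [36]), (3, 37, [41]), (3, 40, [40]), (2, 3, [36]), (3, 40, [41]), (3, 43, [40]), (2, 6, [36]), (3, 43, [41]), (3, 46, [40]), (2, 9, [36]), (3, 46, [41]), (3, 46, [18, 25, 33, 19]), (3, 46, [25, 26]), (3, 46, [19, 25, 32, 18]), (3, 46, [19, 24, 33, 18]), (3, 46, [24, 27]), (3, 46, [18, 24, 32, 19])],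
  [(3, 56, [41]), (3, 56, [40]), (2, 9, [37]), (3, 56, [18, 25, 33, 19]), (3, 56, [19, 25, 32, 18]), (3, 56, [25, 26]), (3, 56, [19, 24, 33, 18]), (3, 56, [18, 24, 32, 19]), (3, 56, [24, 27]), (4, 48, [21, 26, 22, 25]), (4, 208, [24, 23, 27, 20]), (4, 50, [21, 26, 22, 25]), (4, 51, [20, 26, 23, 25]), (4, 127, [24, 23, 27, 20]), (4, 50, [21, 22]), (4, 45, [24, 23, 27, 20]), (3, 46, [24, 23, 27, 20]), (4, 47, [24, 23, 27, 20]), (3, 74, [41]), (3, 74, [40]), (2, 0, [37]), (3, 77, [41]), (3, 77, [40]), (2, 3, [37]), (3, 80, [41]), (3, 80, [40]), (2, 6, [37])],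
  [(2, 6, [21, 26, 22, 25]), (3, 7, [21, 26, 22, 25]), (3, 8, [21, 26, 22, 25]), (4, 45, [21, 27, 22, 24]), (3, 46, [21, 27, 22, 24]), (4, 47, [21, 27, 22, 24]), (1, 11, []), (2, 87, [41]), (2, 87, [40]), (2, 9, [21, 22]), (3, 10, [21, 22]), (3, 11, [21, 22]), (3, 161, [18, 33, 25, 19]), (3, 161, [19, 32, 25, 18]), (3, 161, [25, 26]), (4, 78, [20, 23]), (4, 79, [20, 23]), (3, 80, [20, 23]), (4, 54, [21, 26, 22, 25]), (4, 55, [21, 26, 22, 25]), (3, 56, [21, 26, 22, 25]), (3, 124, [19, 33, 24, 18]), (3, 124, [24, 27]), (3, 124, [18, 32, 24, 19]), (4, 42, [21, 22]), (3, 43, [21, 22]), (4, 44, [21, 22])],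
  [(2, 9, [21, 26, 22, 25]), (3, 10, [21, 26, 22, 25]), (3, 11, [21, 26, 22, 25]), (3, 161, [18, 24, 32, 19]), (3, 161, [19, 24, 33, 18]), (3, 161, [24, 27]), (4, 78, [21, 22]), (4, 79, [21, 22]), (3, 80, [21, 22]), (4, 42, [21, 26, 22, 25]), (3, 43, [21, 26, 22, 25]), (4, 44, [21, 26, 22, 25]), (4, 54, [21, 27, 22, 24]), (4, 55, [21, 27, 22, 24]), (3, 56, [21, 27, 22, 24]), (3, 124, [40]), (2, 87, [36]), (3, 124, [41]), (4, 45, [21, 22]), (3, 46, [21, 22]), (4, 47, [21, 22]), (2, 87, [25, 26]), (2, 87, [19, 25, 32, 18]), (2, 87, [18, 25, 33, 19]), (2, 6, [20, 23]), (3, 7, [20, 23]), (3, 8, [20, 23])],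
  [(4, 54, [21, 22]), (4, 55, [21, 22]), (3, 56, [21, 22]), (3, 124, [19, 25, 32, 18]), (3, 124, [25, 26]), (3, 124, [18, 25, 33, 19]), (4, 42, [20, 23]), (3, 43, [20, 23]), (4, 44, [20, 23]), (4, 45, [21, 26, 22, 25]), (3, 46, [21, 26, 22, 25]), (4, 47, [21, 26, 22, 25]), (2, 87, [24, 27]), (2, 87, [19, 24, 33, 18]), (2, 87, [18, 24, 32, 19]), (2, 6, [21, 22]), (3, 7, [21, 22]), (3, 8, [21, 22]), (4, 78, [21, 26, 22, 25]), (4, 79, [21, 26, 22, 25]), (3, 80, [21, 26, 22, 25]), (2, 9, [21, 27, 22, 24]), (3, 10, [21, 27, 22, 24]), (3, 11, [21, 27, 22, 24]), (3, 161, [41]), (3, 161, [40]), (2, 87, [37])],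
  [(2, 3, [21, 26, 22, 25]), (3, 4, [21, 26, 22, 25]), (3, 5, [21, 26, 22, 25]), (2, 87, [21, 27, 22, 24]), (3, 88, [21, 27, 22, 24]), (3, 89, [21, 27, 22, 24]), (4, 45, [20, 26, 23, 25]), (3, 46, [20, 26, 23, 25]), (4, 47, [20, 26, 23, 25]), (2, 9, [20, 23]), (3, 10, [20, 23]), (3, 11, [20, 23]), (4, 75, [21, 22]), (4, 76, [21, 22]), (3, 77, [21, 22]), (4, 159, [20, 23]), (4, 160, [20, 23]), (3, 161, [20, 23]), (4, 218, [19, 33, 24, 18]), (4, 218, [18, 32, 24, 19]), (4, 137, [21, 27, 22, 24]), (4, 39, [20, 23]), (3, 40, [20, 23]), (4, 41, [20, 23]), (4, 123, [21, 22]), (3, 124, [21, 22]), (4, 125, [21, 22])],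
  [(3, 90, [21, 27, 22, 24]), (3, 171, [18, 24, 32, 19]), (3, 171, [19, 24, 33, 18]), (4, 75, [20, 23]), (4, 76, [20, 23]), (3, 77, [20, 23]), (4, 159, [21, 22]), (4, 160, [21, 22]), (3, 161, [21, 22]), (4, 39, [21, 26, 22, 25]), (3, 40, [21, 26, 22, 25]), (4, 41, [21, 26, 22, 25]), (4, 123, [21, 27, 22, 24]), (3, 124, [21, 27, 22, 24]), (4, 125, [21, 27, 22, 24]), (4, 54, [20, 26, 23, 25]), (4, 55, [20, 26, 23, 25]), (3, 56, [20, 26, 23, 25]), (4, 45, [20, 23]), (3, 46, [20, 23]), (4, 47, [20, 23]), (2, 3, [21, 22]), (3, 4, [21, 22]), (3, 5, [21, 22]), (2, 87, [20, 23]), (3, 88, [20, 23]), (3, 89, [20, 23])],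
  [(4, 54, [20, 23]), (4, 55, [20, 23]), (3, 56, [20, 23]), (4, 39, [21, 22]), (3, 40, [21, 22]), (4, 41, [21, 22]), (4, 123, [20, 23]), (3, 124, [20, 23]), (4, 125, [20, 23]), (4, 208, [18, 24, 32, 19]), (4, 127, [21, 27, 22, 24]), (4, 208, [19, 24, 33, 18]), (2, 3, [20, 23]), (3, 4, [20, 23]), (3, 5, [20, 23]), (2, 87, [21, 22]), (3, 88, [21, 22]), (3, 89, [21, 22]), (4, 75, [21, 26, 22, 25]), (4, 76, [21, 26, 22, 25]), (3, 77, [21, 26, 22, 25]), (4, 159, [21, 27, 22, 24]), (4, 160, [21, 27, 22, 24]), (3, 161, [21, 27, 22, 24]), (2, 9, [20, 26, 23, 25]), (3, 10, [20, 26, 23, 25]), (3, 11, [20, 26, 23, 25])],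
  [(0, 40, []), (0, 40, []), (0, 40, []), (0, 40, []), (0, 40, []), (0, 40, []), (0, 40, []), (0, 40, []), (0, 40, []), (0, 40, []), (0, 40, []), (0, 40, []), (0, 40, []), (0, 40, []), (0, 40, []), (0, 40, []), (0, 40, []), (0, 40, []), (0, 40, []), (0, 40, []), (0, 40, []), (0, 40, []), (0, 40, []), (0, 40, []), (0, 40, []), (0, 40, []), (0, 40, [])],
  [(0, 40, []), (0, 40, []), (0, 40, []), (0, 40, []), (0, 40, []), (0, 40, []), (0, 40, []), (0, 40, []), (0, 40, []), (0, 40, []), (0, 40, []), (0, 40, []), (0, 40, []), (0, 40, []), (0, 40, []), (0, 40, []), (0, 40, []), (0, 40, []), (0, 40, []), (0, 40, []), (0, 40, []), (0, 40, []), (0, 40, []), (0, 40, []), (0, 40, []), (0, 40, []), (0, 40, [])],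
  [(0, 40, []), (0, 40, []), (0, 40, []), (0, 40, []), (0, 40, []), (0, 40, []), (0, 40, []), (0, 40, []), (0, 40, []), (0, 40, []), (0, 40, []), (0, 40, []), (0, 40, []), (0, 40, []), (0, 40, []), (0, 40, []), (0, 40, []), (0, 40, []), (0, 40, []), (0, 40, []), (0, 40, []), (0, 40, []), (0, 40, []), (0, 40, []), (0, 40, []), (0, 40, []), (0, 40, [])],
  [(0, 40, []), (0, 40, []), (0, 40, []), (0, 40, []), (0, 40, []), (0, 40, []), (0, 40, []), (0, 40, []), (0, 40, []), (0, 40, []), (0, 40, []), (0, 40, []), (0, 40, []), (0, 40, []), (0, 40, []), (0, 40, []), (0, 40, []), (0, 40, []), (0, 40, []), (0, 40, []), (0, 40, []), (0, 40, []), (0, 40, []), (0, 40, []), (0, 40, []), (0, 40, []), (0, 40, [])],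
  [(0, 40, []), (0, 40, []), (0, 40, []), (0, 40, []), (0, 40, []), (0, 40, []), (0, 40, []), (0, 40, []), (0, 40, []), (0, 40, []), (0, 40, []), (0, 40, []), (0, 40, []), (0, 40, []), (0, 40, []), (0, 40, []), (0, 40, []), (0, 40, []), (0, 40, []), (0, 40, []), (0, 40, []), (0, 40, []), (0, 40, []), (0, 40, []), (0, 40, []), (0, 40, []), (0, 40, [])],
  [(0, 40, []), (0, 40, []), (0, 40, []), (0, 40, []), (0, 40, []), (0, 40, []), (0, 40, []), (0, 40, []), (0, 40, []), (0, 40, []), (0, 40, []), (0, 40, []), (0, 40, []), (0, 40, []), (0, 40, []), (0, 40, []), (0, 40, []), (0, 40, []), (0, 40, []), (0, 40, []), (0, 40, []), (0, 40, []), (0, 40, []), (0, 40, []), (0, 40, []), (0, 40, []), (0, 40, [])],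
  [(0, 40, []), (0, 40, []), (0, 40, []), (0, 40, []), (0, 40, []), (0, 40, []), (0, 40, []), (0, 40, []), (0, 40, []), (0, 40, []), (0, 40, []), (0, 40, []), (0, 40, []), (0, 40, []), (0, 40, []), (0, 40, []), (0, 40, []), (0, 40, []), (0, 40, []), (0, 40, []), (0, 40, []), (0, 40, []), (0, 40, []), (0, 40, []), (0, 40, []), (0, 40, []), (0, 40, [])],
  [(0, 40, []), (0, 40, []), (0, 40, []), (0, 40, []), (0, 40, []), (0, 40, []), (0, 40, []), (0, 40, []), (0, 40, []), (0, 40, []), (0, 40, []), (0, 40, []), (0, 40, []), (0, 40, []), (0, 40, []), (0, 40, []), (0, 40, []), (0, 40, []), (0, 40, []), (0, 40, []), (0, 40, []), (0, 40, []), (0, 40, []), (0, 40, []), (0, 40, []), (0, 40, []), (0, 40, [])],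
  [(0, 40, []), (0, 40, []), (0, 40, []), (0, 40, []), (0, 40, []), (0, 40, []), (0, 40, []), (0, 40, []), (0, 40, []), (0, 40, []), (0, 40, []), (0, 40, []), (0, 40, []), (0, 40, []), (0, 40, []), (0, 40, []), (0, 40, []), (0, 40, []), (0, 40, []), (0, 40, []), (0, 40, []), (0, 40, []), (0, 40, []), (0, 40, []), (0, 40, []), (0, 40, []), (0, 40, [])],
  [(0, 40, []), (0, 40, []), (0, 40, []), (0, 40, []), (0, 40, []), (0, 40, []), (0, 40, []), (0, 40, []), (0, 40, []), (0, 40, []), (0, 40, []), (0, 40, []), (0, 40, []), (0, 40, []), (0, 40, []), (0, 40, []), (0, 40, []), (0, 40, []), (0, 40, []), (0, 40, []), (0, 40, []), (0, 40, []), (0, 40, []), (0, 40, []), (0, 40, []), (0, 40, []), (0, 40, [])],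
  [(0, 40, []), (0, 40, []), (0, 40, []), (0, 40, []), (0, 40, []), (0, 40, []), (0, 40, []), (0, 40, []), (0, 40, []), (0, 40, []), (0, 40, []), (0, 40, []), (0, 40, []), (0, 40, []), (0, 40, []), (0, 40, []), (0, 40, []), (0, 40, []), (0, 40, []), (0, 40, []), (0, 40, []), (0, 40, []), (0, 40, []), (0, 40, []), (0, 40, []), (0, 40, []), (0, 40, [])],
  [(0, 40, []), (0, 40, []), (0, 40, []), (0, 40, []), (0, 40, []), (0, 40, []), (0, 40, []), (0, 40, []), (0, 40, []), (0, 40, []), (0, 40, []), (0, 40, []), (0, 40, []), (0, 40, []), (0, 40, []), (0, 40, []), (0, 40, []), (0, 40, []), (0, 40, []), (0, 40, []), (0, 40, []), (0, 40, []), (0, 40, []), (0, 40, []), (0, 40, []), (0, 40, []), (0, 40, [])],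
  [(0, 40, []), (0, 40, []), (0, 40, []), (0, 40, []), (0, 40, []), (0, 40, []), (0, 40, []), (0, 40, []), (0, 40, []), (0, 40, []), (0, 40, []), (0, 40, []), (0, 40, []), (0, 40, []), (0, 40, []), (0, 40, []), (0, 40, []), (0, 40, []), (0, 40, []), (0, 40, []), (0, 40, []), (0, 40, []), (0, 40, []), (0, 40, []), (0, 40, []), (0, 40, []), (0, 40, [])],
  [(0, 40, []), (0, 40, []), (0, 40, []), (0, 40, []), (0, 40, []), (0, 40, []), (0, 40, []), (0, 40, []), (0, 40, []), (0, 40, []), (0, 40, []), (0, 40, []), (0, 40, []), (0, 40, []), (0, 40, []), (0, 40, []), (0, 40, []), (0, 40, []), (0, 40, []), (0, 40, []), (0, 40, []), (0, 40, []), (0, 40, []), (0, 40, []), (0, 40, []), (0, 40, []), (0, 40, [])],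
  [(0, 40, []), (0, 40, []), (0, 40, []), (0, 40, []), (0, 40, []), (0, 40, []), (0, 40, []), (0, 40, []), (0, 40, []), (0, 40, []), (0, 40, []), (0, 40, []), (0, 40, []), (0, 40, []), (0, 40, []), (0, 40, []), (0, 40, []), (0, 40, []), (0, 40, []), (0, 40, []), (0, 40, []), (0, 40, []), (0, 40, []), (0, 40, []), (0, 40, []), (0, 40, []), (0, 40, [])],
  [(0, 40, []), (0, 40, []), (0, 40, []), (0, 40, []), (0, 40, []), (0, 40, []), (0, 40, []), (0, 40, []), (0, 40, []), (0, 40, []), (0, 40, []), (0, 40, []), (0, 40, []), (0, 40, []), (0, 40, []), (0, 40, []), (0, 40, []), (0, 40, []), (0, 40, []), (0, 40, []), (0, 40, []), (0, 40, []), (0, 40, []), (0, 40, []), (0, 40, []), (0, 40, []), (0, 40, [])],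
  [(0, 40, []), (0, 40, []), (0, 40, []), (0, 40, []), (0, 40, []), (0, 40, []), (0, 40, []), (0, 40, []), (0, 40, []), (0, 40, []), (0, 40, []), (0, 40, []), (0, 40, []), (0, 40, []), (0, 40, []), (0, 40, []), (0, 40, []), (0, 40, []), (0, 40, []), (0, 40, []), (0, 40, []), (0, 40, []), (0, 40, []), (0, 40, []), (0, 40, []), (0, 40, []), (0, 40, [])],
  [(0, 40, []), (0, 40, []), (0, 40, []), (0, 40, []), (0, 40, []), (0, 40, []), (0, 40, []), (0, 40, []), (0, 40, []), (0, 40, []), (0, 40, []), (0, 40, []), (0, 40, []), (0, 40, []), (0, 40, []), (0, 40, []), (0, 40, []), (0, 40, []), (0, 40, []), (0, 40, []), (0, 40, []), (0, 40, []), (0, 40, []), (0, 40, []), (0, 40, []), (0, 40, []), (0, 40, [])]]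

end CfsgLib.Classical.O8Three
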