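import Mathlib

/-! Certificates: the second level over the root 15. -/

set_option autoImplicit false
set_option maxRecDepth 100000
set_option maxHeartbeats 4000000

namespace CfsgLib.Classical.O8Three

/-- The certificate of each element over the root. -/
def T2R3 : List (List (ℕ × ℕ × List ℕ)) := [
  [(1, 2, [10, 37]), (2, 0, [40]), (2, 0, [41]), (1, 9, [36, 11, 36]), (2, 3, [40]), (2, 3, [41]), (1, 10, [37, 10, 37]), (2, 6, [40]), (2, 6, [41]), (1, 12, [3, 27, 20, 27, 40, 6, 40, 11]), (2, 9, [40]), (2, 9, [41]), (2, 9, [25, 27]), (3, 10, [25, 27]), (3, 11, [25, 27]), (2, 9, [24, 26]), (3, 10, [24, 26]), (3, 11, [24, 26]), (4, 33, [21, 26, 23, 24]), (4, 34, [21, 26, 23, 24]), (4, 191, [25, 22, 27, 20]), (4, 27, [25, 22, 27, 20]), (4, 28, [25, 22, 27, 20]), (3, 29, [25, 22, 27, 20]), (4, 33, [21, 23]), (4, 31, [20, 26, 22, 24]), (4, 110, [25, 22, 27, 20])],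
  [(3, 29, [40]), (3, 29, [41]), (2, 9, [36]), (3, 29, [18, 25, 32, 19]), (3, 29, [19, 25, 33, 18]), (3, 29, [25, 27]), (3, 29, [19, 24, 32, 18]), (3, 29, [18, 24, 33, 19]), (3, 29, [24, 26]), (4, 78, [21, 26, 23, 24]), (4, 235, [25, 22, 27, 20]), (4, 80, [21, 26, 23, 24]), (4, 72, [25, 22, 27, 20]), (3, 73, [25, 22, 27, 20]), (4, 74, [25, 22, 27, 20]), (4, 78, [21, 23]), (4, 154, [25, 22, 27, 20]), (4, 77, [20, 26, 22, 24]), (3, 47, [40]), (3, 47, [41]), (2, 0, [36]), (3, 50, [40]), (3, 50, [41]), (2, 3, [36]), (3, 53, [40]), (3, 53, [41]), (2, 6, [36])],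
  [(3, 171, [25, 22, 27, 20]), (3, 57, [19, 25, 33, 18]), (3, 57, [18, 25, 32, 19]), (2, 9, [25, 22, 27, 20]), (3, 10, [25, 22, 27, 20]), (3, 11, [25, 22, 27, 20]), (3, 90, [25, 22, 27, 20]), (3, 57, [18, 24, 33, 19]), (3, 57, [19, 24, 32, 18]), (3, 64, [41]), (2, 0, [37]), (3, 64, [40]), (3, 67, [41]), (2, 3, [37]), (3, 67, [40]), (3, 70, [41]), (2, 6, [37]), (3, 70, [40]), (3, 73, [41]), (2, 9, [37]), (3, 73, [40]), (3, 73, [18, 25, 32, 19]), (3, 73, [25, 27]), (3, 73, [19, 25, 33, 18]), (3, 73, [19, 24, 32, 18]), (3, 73, [24, 26]), (3, 73, [18, 24, 33, 19])],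
  [(2, 3, [21, 26, 23, 24]), (3, 4, [21, 26, 23, 24]), (3, 5, [21, 26, 23, 24]), (1, 11, [11, 23, 37, 25]), (2, 84, [40]), (2, 84, [41]), (4, 72, [21, 27, 23, 25]), (3, 73, [21, 27, 23, 25]), (4, 74, [21, 27, 23, 25]), (2, 9, [21, 23]), (3, 10, [21, 23]), (3, 11, [21, 23]), (4, 48, [20, 22]), (4, 49, [20, 22]), (3, 50, [20, 22]), (3, 131, [19, 32, 24, 18]), (3, 131, [18, 33, 24, 19]), (3, 131, [24, 26]), (4, 27, [21, 26, 23, 24]), (4, 28, [21, 26, 23, 24]), (3, 29, [21, 26, 23, 24]), (4, 66, [21, 23]), (3, 67, [21, 23]), (4, 68, [21, 23]), (3, 148, [18, 32, 25, 19]), (3, 148, [25, 27]), (3, 148, [19, 33, 25, 18])],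
  [(4, 27, [21, 23]), (4, 28, [21, 23]), (3, 29, [21, 23]), (4, 66, [20, 22]), (3, 67, [20, 22]), (4, 68, [20, 22]), (3, 148, [18, 24, 33, 19]), (3, 148, [24, 26]), (3, 148, [19, 24, 32, 18]), (4, 72, [21, 26, 23, 24]), (3, 73, [21, 26, 23, 24]), (4, 74, [21, 26, 23, 24]), (2, 3, [21, 23]), (3, 4, [21, 23]), (3, 5, [21, 23]), (2, 84, [25, 27]), (2, 84, [18, 25, 32, 19]), (2, 84, [19, 25, 33, 18]), (4, 48, [21, 26, 23, 24]), (4, 49, [21, 26, 23, 24]), (3, 50, [21, 26, 23, 24]), (3, 131, [40]), (3, 131, [41]), (2, 84, [36]), (2, 9, [21, 27, 23, 25]), (3, 10, [21, 27, 23, 25]), (3, 11, [21, 27, 23, 25])],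
  [(2, 9, [21, 26, 23, 24]), (3, 10, [21, 26, 23, 24]), (3, 11, [21, 26, 23, 24]), (4, 48, [21, 23]), (4, 49, [21, 23]), (3, 50, [21, 23]), (3, 131, [19, 25, 33, 18]), (3, 131, [18, 25, 32, 19]), (3, 131, [25, 27]), (4, 66, [21, 26, 23, 24]), (3, 67, [21, 26, 23, 24]), (4, 68, [21, 26, 23, 24]), (3, 148, [41]), (2, 84, [37]), (3, 148, [40]), (4, 27, [21, 27, 23, 25]), (4, 28, [21, 27, 23, 25]), (3, 29, [21, 27, 23, 25]), (4, 72, [21, 23]), (3, 73, [21, 23]), (4, 74, [21, 23]), (2, 3, [20, 22]), (3, 4, [20, 22]), (3, 5, [20, 22]), (2, 84, [24, 26]), (2, 84, [18, 24, 33, 19]), (2, 84, [19, 24, 32, 18])],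
  [(2, 6, [21, 26, 23, 24]), (3, 7, [21, 26, 23, 24]), (3, 8, [21, 26, 23, 24]), (4, 72, [20, 26, 22, 24]), (3, 73, [20, 26, 22, 24]), (4, 74, [20, 26, 22, 24]), (2, 84, [20, 26, 22, 24]), (3, 85, [20, 26, 22, 24]), (3, 86, [20, 26, 22, 24]), (2, 9, [20, 22]), (3, 10, [20, 22]), (3, 11, [20, 22]), (4, 129, [20, 22]), (4, 130, [20, 22]), (3, 131, [20, 22]), (4, 51, [21, 23]), (4, 52, [21, 23]), (3, 53, [21, 23]), (4, 191, [18, 32, 25, 19]), (4, 191, [19, 33, 25, 18]), (4, 191, [25, 27]), (4, 147, [21, 23]), (3, 148, [21, 23]), (4, 149, [21, 23]), (4, 69, [20, 22]), (3, 70, [20, 22]), (4, 71, [20, 22])],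
  [(4, 27, [20, 22]), (4, 28, [20, 22]), (3, 29, [20, 22]), (4, 147, [20, 22]), (3, 148, [20, 22]), (4, 149, [20, 22]), (4, 69, [21, 23]), (3, 70, [21, 23]), (4, 71, [21, 23]), (4, 235, [19, 25, 33, 18]), (4, 235, [25, 27]), (4, 235, [18, 25, 32, 19]), (2, 84, [21, 23]), (3, 85, [21, 23]), (3, 86, [21, 23]), (2, 6, [20, 22]), (3, 7, [20, 22]), (3, 8, [20, 22]), (4, 51, [21, 26, 23, 24]), (4, 52, [21, 26, 23, 24]), (3, 53, [21, 26, 23, 24]), (2, 9, [20, 26, 22, 24]), (3, 10, [20, 26, 22, 24]), (3, 11, [20, 26, 22, 24]), (4, 129, [20, 26, 22, 24]), (4, 130, [20, 26, 22, 24]), (3, 131, [20, 26, 22, 24])],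
  [(3, 171, [25, 27]), (3, 171, [19, 25, 33, 18]), (3, 171, [18, 25, 32, 19]), (4, 129, [21, 23]), (4, 130, [21, 23]), (3, 131, [21, 23]), (4, 51, [20, 22]), (4, 52, [20, 22]), (3, 53, [20, 22]), (4, 69, [21, 26, 23, 24]), (3, 70, [21, 26, 23, 24]), (4, 71, [21, 26, 23, 24]), (4, 27, [20, 26, 22, 24]), (4, 28, [20, 26, 22, 24]), (3, 29, [20, 26, 22, 24]), (4, 147, [20, 26, 22, 24]), (3, 148, [20, 26, 22, 24]), (4, 149, [20, 26, 22, 24]), (4, 72, [20, 22]), (3, 73, [20, 22]), (4, 74, [20, 22]), (2, 84, [20, 22]), (3, 85, [20, 22]), (3, 86, [20, 22]), (2, 6, [21, 23]), (3, 7, [21, 23]), (3, 8, [21, 23])],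
  [(0, 40, []), (0, 40, []), (0, 40, []), (0, 40, []), (0, 40, []), (0, 40, []), (0, 40, []), (0, 40, []), (0, 40, []), (0, 40, []), (0, 40, []), (0, 40, []), (0, 40, []), (0, 40, []), (0, 40, []), (0, 40, []), (0, 40, []), (0, 40, []), (0, 40, []), (0, 40, []), (0, 40, []), (0, 40, []), (0, 40, []), (0, 40, []), (0, 40, []), (0, 40, []), (0, 40, [])],
  [(0, 40, []), (0, 40, []), (0, 40, []), (0, 40, []), (0, 40, []), (0, 40, []), (0, 40, []), (0, 40, []), (0, 40, []), (0, 40, []), (0, 40, []), (0, 40, []), (0, 40, []), (0, 40, []), (0, 40, []), (0, 40, []), (0, 40, []), (0, 40, []), (0, 40, []), (0, 40, []), (0, 40, []), (0, 40, []), (0, 40, []), (0, 40, []), (0, 40, []), (0, 40, []), (0, 40, [])],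
  [(0, 40, []), (0, 40, []), (0, 40, []), (0, 40, []), (0, 40, []), (0, 40, []), (0, 40, []), (0, 40, []), (0, 40, []), (0, 40, []), (0, 40, []), (0, 40, []), (0, 40, []), (0, 40, []), (0, 40, []), (0, 40, []), (0, 40, []), (0, 40, []), (0, 40, []), (0, 40, []), (0, 40, []), (0, 40, []), (0, 40, []), (0, 40, []), (0, 40, []), (0, 40, []), (0, 40, [])],
  [(0, 40, []), (0, 40, []), (0, 40, []), (0, 40, []), (0, 40, []), (0, 40, []), (0, 40, []), (0, 40, []), (0, 40, []), (0, 40, []), (0, 40, []), (0, 40, []), (0, 40, []), (0, 40, []), (0, 40, []), (0, 40, []), (0, 40, []), (0, 40, []), (0, 40, []), (0, 40, []), (0, 40, []), (0, 40, []), (0, 40, []), (0, 40, []), (0, 40, []), (0, 40, []), (0, 40, [])],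
  [(0, 40, []), (0, 40, []), (0, 40, []), (0, 40, []), (0, 40, []), (0, 40, []), (0, 40, []), (0, 40, []), (0, 40, []), (0, 40, []), (0, 40, []), (0, 40, []), (0, 40, []), (0, 40, []), (0, 40, []), (0, 40, []), (0, 40, []), (0, 40, []), (0, 40, []), (0, 40, []), (0, 40, []), (0, 40, []), (0, 40, []), (0, 40, []), (0, 40, []), (0, 40, []), (0, 40, [])],
  [(0, 40, []), (0, 40, []), (0, 40, []), (0, 40, []), (0, 40, []), (0, 40, []), (0, 40, []), (0, 40, []), (0, 40, []), (0, 40, []), (0, 40, []), (0, 40, []), (0, 40, []), (0, 40, []), (0, 40, []), (0, 40, []), (0, 40, []), (0, 40, []), (0, 40, []), (0, 40, []), (0, 40, []), (0, 40, []), (0, 40, []), (0, 40, []), (0, 40, []), (0, 40, []), (0, 40, [])],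
  [(0, 40, []), (0, 40, []), (0, 40, []), (0, 40, []), (0, 40, []), (0, 40, []), (0, 40, []), (0, 40, []), (0, 40, []), (0, 40, []), (0, 40, []), (0, 40, []), (0, 40, []), (0, 40, []), (0, 40, []), (0, 40, []), (0, 40, []), (0, 40, []), (0, 40, []), (0, 40, []), (0, 40, []), (0, 40, []), (0, 40, []), (0, 40, []), (0, 40, []), (0, 40, []), (0, 40, [])],
  [(0, 40, []), (0, 40, []), (0, 40, []), (0, 40, []), (0, 40, []), (0, 40, []), (0, 40, []), (0, 40, []), (0, 40, []), (0, 40, []), (0, 40, []), (0, 40, []), (0, 40, []), (0, 40, []), (0, 40, []), (0, 40, []), (0, 40, []), (0, 40, []), (0, 40, []), (0, 40, []), (0, 40, []), (0, 40, []), (0, 40, []), (0, 40, []), (0, 40, []), (0, 40, []), (0, 40, [])],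
  [(0, 40, []), (0, 40, []), (0, 40, []), (0, 40, []), (0, 40, []), (0, 40, []), (0, 40, []), (0, 40, []), (0, 40, []), (0, 40, []), (0, 40, []), (0, 40, []), (0, 40, []), (0, 40, []), (0, 40, []), (0, 40, []), (0, 40, []), (0, 40, []), (0, 40, []), (0, 40, []), (0, 40, []), (0, 40, []), (0, 40, []), (0, 40, []), (0, 40, []), (0, 40, []), (0, 40, [])],
  [(0, 40, []), (0, 40, []), (0, 40, []), (0, 40, []), (0, 40, []), (0, 40, []), (0, 40, []), (0, 40, []), (0, 40, []), (0, 40, []), (0, 40, []), (0, 40, []), (0, 40, []), (0, 40, []), (0, 40, []), (0, 40, []), (0, 40, []), (0, 40, []), (0, 40, []), (0, 40, []), (0, 40, []), (0, 40, []), (0, 40, []), (0, 40, []), (0, 40, []), (0, 40, []), (0, 40, [])],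
  [(0, 40, []), (0, 40, []), (0, 40, []), (0, 40, []), (0, 40, []), (0, 40, []), (0, 40, []), (0, 40, []), (0, 40, []), (0, 40, []), (0, 40, []), (0, 40, []), (0, 40, []), (0, 40, []), (0, 40, []), (0, 40, []), (0, 40, []), (0, 40, []), (0, 40, []), (0, 40, []), (0, 40, []), (0, 40, []), (0, 40, []), (0, 40, []), (0, 40, []), (0, 40, []), (0, 40, [])],
  [(0, 40, []), (0, 40, []), (0, 40, []), (0, 40, []), (0, 40, []), (0, 40, []), (0, 40, []), (0, 40, []), (0, 40, []), (0, 40, []), (0, 40, []), (0, 40, []), (0, 40, []), (0, 40, []), (0, 40, []), (0, 40, []), (0, 40, []), (0, 40, []), (0, 40, []), (0, 40, []), (0, 40, []), (0, 40, []), (0, 40, []), (0, 40, []), (0, 40, []), (0, 40, []), (0, 40, [])],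
  [(0, 40, []), (0, 40, []), (0, 40, []), (0, 40, []), (0, 40, []), (0, 40, []), (0, 40, []), (0, 40, []), (0, 40, []), (0, 40, []), (0, 40, []), (0, 40, []), (0, 40, []), (0, 40, []), (0, 40, []), (0, 40, []), (0, 40, []), (0, 40, []), (0, 40, []), (0, 40, []), (0, 40, []), (0, 40, []), (0, 40, []), (0, 40, []), (0, 40, []), (0, 40, []), (0, 40, [])],
  [(0, 40, []), (0, 40, []), (0, 40, []), (0, 40, []), (0, 40, []), (0, 40, []), (0, 40, []), (0, 40, []), (0, 40, []), (0, 40, []), (0, 40, []), (0, 40, []), (0, 40, []), (0, 40, []), (0, 40, []), (0, 40, []), (0, 40, []), (0, 40, []), (0, 40, []), (0, 40, []), (0, 40, []), (0, 40, []), (0, 40, []), (0, 40, []), (0, 40, []), (0, 40, []), (0, 40, [])],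
  [(0, 40, []), (0, 40, []), (0, 40, []), (0, 40, []), (0, 40, []), (0, 40, []), (0, 40, []), (0, 40, []), (0, 40, []), (0, 40, []), (0, 40, []), (0, 40, []), (0, 40, []), (0, 40, []), (0, 40, []), (0, 40, []), (0, 40, []), (0, 40, []), (0, 40, []), (0, 40, []), (0, 40, []), (0, 40, []), (0, 40, []), (0, 40, []), (0, 40, []), (0, 40, []), (0, 40, [])],
  [(0, 40, []), (0, 40, []), (0, 40, []), (0, 40, []), (0, 40, []), (0, 40, []), (0, 40, []), (0, 40, []), (0, 40, []), (0, 40, []), (0, 40, []), (0, 40, []), (0, 40, []), (0, 40, []), (0, 40, []), (0, 40, []), (0, 40, []), (0, 40, []), (0, 40, []), (0, 40, []), (0, 40, []), (0, 40, []), (0, 40, []), (0, 40, []), (0, 40, []), (0, 40, []), (0, 40, [])],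
  [(0, 40, []), (0, 40, []), (0, 40, []), (0, 40, []), (0, 40, []), (0, 40, []), (0, 40, []), (0, 40, []), (0, 40, []), (0, 40, []), (0, 40, []), (0, 40, []), (0, 40, []), (0, 40, []), (0, 40, []), (0, 40, []), (0, 40, []), (0, 40, []), (0, 40, []), (0, 40, []), (0, 40, []), (0, 40, []), (0, 40, []), (0, 40, []), (0, 40, []), (0, 40, []), (0, 40, [])],
  [(0, 40, []), (0, 40, []), (0, 40, []), (0, 40, []), (0, 40, []), (0, 40, []), (0, 40, []), (0, 40, []), (0, 40, []), (0, 40, []), (0, 40, []), (0, 40, []), (0, 40, []), (0, 40, []), (0, 40, []), (0, 40, []), (0, 40, []), (0, 40, []), (0, 40, []), (0, 40, []), (0, 40, []), (0, 40, []), (0, 40, []), (0, 40, []), (0, 40, []), (0, 40, []), (0, 40, [])]]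

end CfsgLib.Classical.O8Three
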