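import Mathlib

/-! Certificates: the second level over the root 90. -/

set_option autoImplicit false
set_option maxRecDepth 100000
set_option maxHeartbeats 4000000

namespace CfsgLib.Classical.O8Three

/-- The certificate of each element over the root. -/
def T2R4 : List (List (ℕ × ℕ × List ℕ)) := [
  [(1, 12, [9, 42, 5, 42, 21]), (2, 0, [43]), (2, 0, [42]), (2, 0, [40]), (3, 3, [43]), (3, 3, [42]), (2, 0, [41]), (3, 6, [43]), (3, 6, [42]), (3, 10, [42]), (2, 0, [38]), (3, 10, [43]), (3, 10, [19, 27, 31, 18]), (3, 10, [40]), (3, 10, [18, 26, 30, 19]), (3, 10, [18, 27, 31, 19]), (3, 10, [41]), (3, 10, [19, 26, 30, 18]), (3, 20, [43]), (3, 20, [42]), (2, 0, [39]), (3, 20, [18, 27, 31, 19]), (3, 20, [19, 26, 30, 18]), (3, 20, [40]), (3, 20, [19, 27, 31, 18]), (3, 20, [18, 26, 30, 19]), (3, 20, [41])],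
  [(2, 0, [36]), (3, 27, [43]), (3, 27, [42]), (3, 27, [40]), (3, 27, [23, 31, 27, 29, 22]), (3, 27, [23, 29, 27, 31, 22]), (3, 27, [41]), (3, 27, [23, 30, 26, 28, 22]), (3, 27, [23, 28, 26, 30, 22]), (4, 37, [42]), (3, 27, [38]), (4, 37, [43]), (4, 37, [27, 31]), (4, 37, [40]), (4, 37, [19, 26, 30, 18]), (4, 37, [19, 27, 31, 18]), (4, 37, [41]), (4, 37, [26, 30]), (4, 47, [43]), (4, 47, [42]), (3, 27, [39]), (4, 47, [27, 31]), (4, 47, [18, 26, 30, 19]), (4, 47, [40]), (4, 47, [18, 27, 31, 19]), (4, 47, [26, 30]), (4, 47, [41])],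
  [(2, 0, [37]), (3, 54, [43]), (3, 54, [42]), (3, 54, [40]), (3, 54, [23, 28, 26, 30, 22]), (3, 54, [23, 30, 26, 28, 22]), (3, 54, [41]), (3, 54, [23, 29, 27, 31, 22]), (3, 54, [23, 31, 27, 29, 22]), (4, 64, [42]), (3, 54, [38]), (4, 64, [43]), (4, 64, [18, 27, 31, 19]), (4, 64, [40]), (4, 64, [26, 30]), (4, 64, [27, 31]), (4, 64, [41]), (4, 64, [18, 26, 30, 19]), (4, 74, [43]), (4, 74, [42]), (3, 54, [39]), (4, 74, [19, 27, 31, 18]), (4, 74, [26, 30]), (4, 74, [40]), (4, 74, [27, 31]), (4, 74, [19, 26, 30, 18]), (4, 74, [41])],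
  [(0, 40, []), (0, 40, []), (0, 40, []), (0, 40, []), (0, 40, []), (0, 40, []), (0, 40, []), (0, 40, []), (0, 40, []), (0, 40, []), (0, 40, []), (0, 40, []), (0, 40, []), (0, 40, []), (0, 40, []), (0, 40, []), (0, 40, []), (0, 40, []), (0, 40, []), (0, 40, []), (0, 40, []), (0, 40, []), (0, 40, []), (0, 40, []), (0, 40, []), (0, 40, []), (0, 40, [])],
  [(0, 40, []), (0, 40, []), (0, 40, []), (0, 40, []), (0, 40, []), (0, 40, []), (0, 40, []), (0, 40, []), (0, 40, []), (0, 40, []), (0, 40, []), (0, 40, []), (0, 40, []), (0, 40, []), (0, 40, []), (0, 40, []), (0, 40, []), (0, 40, []), (0, 40, []), (0, 40, []), (0, 40, []), (0, 40, []), (0, 40, []), (0, 40, []), (0, 40, []), (0, 40, []), (0, 40, [])],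
  [(0, 40, []), (0, 40, []), (0, 40, []), (0, 40, []), (0, 40, []), (0, 40, []), (0, 40, []), (0, 40, []), (0, 40, []), (0, 40, []), (0, 40, []), (0, 40, []), (0, 40, []), (0, 40, []), (0, 40, []), (0, 40, []), (0, 40, []), (0, 40, []), (0, 40, []), (0, 40, []), (0, 40, []), (0, 40, []), (0, 40, []), (0, 40, []), (0, 40, []), (0, 40, []), (0, 40, [])],
  [(0, 40, []), (0, 40, []), (0, 40, []), (0, 40, []), (0, 40, []), (0, 40, []), (0, 40, []), (0, 40, []), (0, 40, []), (0, 40, []), (0, 40, []), (0, 40, []), (0, 40, []), (0, 40, []), (0, 40, []), (0, 40, []), (0, 40, []), (0, 40, []), (0, 40, []), (0, 40, []), (0, 40, []), (0, 40, []), (0, 40, []), (0, 40, []), (0, 40, []), (0, 40, []), (0, 40, [])],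
  [(0, 40, []), (0, 40, []), (0, 40, []), (0, 40, []), (0, 40, []), (0, 40, []), (0, 40, []), (0, 40, []), (0, 40, []), (0, 40, []), (0, 40, []), (0, 40, []), (0, 40, []), (0, 40, []), (0, 40, []), (0, 40, []), (0, 40, []), (0, 40, []), (0, 40, []), (0, 40, []), (0, 40, []), (0, 40, []), (0, 40, []), (0, 40, []), (0, 40, []), (0, 40, []), (0, 40, [])],
  [(0, 40, []), (0, 40, []), (0, 40, []), (0, 40, []), (0, 40, []), (0, 40, []), (0, 40, []), (0, 40, []), (0, 40, []), (0, 40, []), (0, 40, []), (0, 40, []), (0, 40, []), (0, 40, []), (0, 40, []), (0, 40, []), (0, 40, []), (0, 40, []), (0, 40, []), (0, 40, []), (0, 40, []), (0, 40, []), (0, 40, []), (0, 40, []), (0, 40, []), (0, 40, []), (0, 40, [])],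
  [(0, 48, []), (0, 48, []), (0, 48, []), (0, 48, []), (0, 48, []), (0, 48, []), (0, 48, []), (0, 48, []), (0, 48, []), (0, 48, []), (0, 48, []), (0, 48, []), (0, 48, []), (0, 48, []), (0, 48, []), (0, 48, []), (0, 48, []), (0, 48, []), (0, 48, []), (0, 48, []), (0, 48, []), (0, 48, []), (0, 48, []), (0, 48, []), (0, 48, []), (0, 48, []), (0, 48, [])],
  [(0, 48, []), (0, 48, []), (0, 48, []), (0, 48, []), (0, 48, []), (0, 48, []), (0, 48, []), (0, 48, []), (0, 48, []), (0, 48, []), (0, 48, []), (0, 48, []), (0, 48, []), (0, 48, []), (0, 48, []), (0, 48, []), (0, 48, []), (0, 48, []), (0, 48, []), (0, 48, []), (0, 48, []), (0, 48, []), (0, 48, []), (0, 48, []), (0, 48, []), (0, 48, []), (0, 48, [])],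
  [(0, 48, []), (0, 48, []), (0, 48, []), (0, 48, []), (0, 48, []), (0, 48, []), (0, 48, []), (0, 48, []), (0, 48, []), (0, 48, []), (0, 48, []), (0, 48, []), (0, 48, []), (0, 48, []), (0, 48, []), (0, 48, []), (0, 48, []), (0, 48, []), (0, 48, []), (0, 48, []), (0, 48, []), (0, 48, []), (0, 48, []), (0, 48, []), (0, 48, []), (0, 48, []), (0, 48, [])],
  [(0, 40, []), (0, 40, []), (0, 40, []), (0, 40, []), (0, 40, []), (0, 40, []), (0, 40, []), (0, 40, []), (0, 40, []), (0, 40, []), (0, 40, []), (0, 40, []), (0, 40, []), (0, 40, []), (0, 40, []), (0, 40, []), (0, 40, []), (0, 40, []), (0, 40, []), (0, 40, []), (0, 40, []), (0, 40, []), (0, 40, []), (0, 40, []), (0, 40, []), (0, 40, []), (0, 40, [])],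
  [(0, 40, []), (0, 40, []), (0, 40, []), (0, 40, []), (0, 40, []), (0, 40, []), (0, 40, []), (0, 40, []), (0, 40, []), (0, 40, []), (0, 40, []), (0, 40, []), (0, 40, []), (0, 40, []), (0, 40, []), (0, 40, []), (0, 40, []), (0, 40, []), (0, 40, []), (0, 40, []), (0, 40, []), (0, 40, []), (0, 40, []), (0, 40, []), (0, 40, []), (0, 40, []), (0, 40, [])],
  [(0, 40, []), (0, 40, []), (0, 40, []), (0, 40, []), (0, 40, []), (0, 40, []), (0, 40, []), (0, 40, []), (0, 40, []), (0, 40, []), (0, 40, []), (0, 40, []), (0, 40, []), (0, 40, []), (0, 40, []), (0, 40, []), (0, 40, []), (0, 40, []), (0, 40, []), (0, 40, []), (0, 40, []), (0, 40, []), (0, 40, []), (0, 40, []), (0, 40, []), (0, 40, []), (0, 40, [])],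
  [(0, 40, []), (0, 40, []), (0, 40, []), (0, 40, []), (0, 40, []), (0, 40, []), (0, 40, []), (0, 40, []), (0, 40, []), (0, 40, []), (0, 40, []), (0, 40, []), (0, 40, []), (0, 40, []), (0, 40, []), (0, 40, []), (0, 40, []), (0, 40, []), (0, 40, []), (0, 40, []), (0, 40, []), (0, 40, []), (0, 40, []), (0, 40, []), (0, 40, []), (0, 40, []), (0, 40, [])],
  [(0, 40, []), (0, 40, []), (0, 40, []), (0, 40, []), (0, 40, []), (0, 40, []), (0, 40, []), (0, 40, []), (0, 40, []), (0, 40, []), (0, 40, []), (0, 40, []), (0, 40, []), (0, 40, []), (0, 40, []), (0, 40, []), (0, 40, []), (0, 40, []), (0, 40, []), (0, 40, []), (0, 40, []), (0, 40, []), (0, 40, []), (0, 40, []), (0, 40, []), (0, 40, []), (0, 40, [])],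
  [(0, 40, []), (0, 40, []), (0, 40, []), (0, 40, []), (0, 40, []), (0, 40, []), (0, 40, []), (0, 40, []), (0, 40, []), (0, 40, []), (0, 40, []), (0, 40, []), (0, 40, []), (0, 40, []), (0, 40, []), (0, 40, []), (0, 40, []), (0, 40, []), (0, 40, []), (0, 40, []), (0, 40, []), (0, 40, []), (0, 40, []), (0, 40, []), (0, 40, []), (0, 40, []), (0, 40, [])],
  [(0, 48, []), (0, 48, []), (0, 48, []), (0, 48, []), (0, 48, []), (0, 48, []), (0, 48, []), (0, 48, []), (0, 48, []), (0, 48, []), (0, 48, []), (0, 48, []), (0, 48, []), (0, 48, []), (0, 48, []), (0, 48, []), (0, 48, []), (0, 48, []), (0, 48, []), (0, 48, []), (0, 48, []), (0, 48, []), (0, 48, []), (0, 48, []), (0, 48, []), (0, 48, []), (0, 48, [])],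
  [(0, 48, []), (0, 48, []), (0, 48, []), (0, 48, []), (0, 48, []), (0, 48, []), (0, 48, []), (0, 48, []), (0, 48, []), (0, 48, []), (0, 48, []), (0, 48, []), (0, 48, []), (0, 48, []), (0, 48, []), (0, 48, []), (0, 48, []), (0, 48, []), (0, 48, []), (0, 48, []), (0, 48, []), (0, 48, []), (0, 48, []), (0, 48, []), (0, 48, []), (0, 48, []), (0, 48, [])],
  [(0, 48, []), (0, 48, []), (0, 48, []), (0, 48, []), (0, 48, []), (0, 48, []), (0, 48, []), (0, 48, []), (0, 48, []), (0, 48, []), (0, 48, []), (0, 48, []), (0, 48, []), (0, 48, []), (0, 48, []), (0, 48, []), (0, 48, []), (0, 48, []), (0, 48, []), (0, 48, []), (0, 48, []), (0, 48, []), (0, 48, []), (0, 48, []), (0, 48, []), (0, 48, []), (0, 48, [])],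
  [(0, 40, []), (0, 40, []), (0, 40, []), (0, 40, []), (0, 40, []), (0, 40, []), (0, 40, []), (0, 40, []), (0, 40, []), (0, 40, []), (0, 40, []), (0, 40, []), (0, 40, []), (0, 40, []), (0, 40, []), (0, 40, []), (0, 40, []), (0, 40, []), (0, 40, []), (0, 40, []), (0, 40, []), (0, 40, []), (0, 40, []), (0, 40, []), (0, 40, []), (0, 40, []), (0, 40, [])],
  [(0, 40, []), (0, 40, []), (0, 40, []), (0, 40, []), (0, 40, []), (0, 40, []), (0, 40, []), (0, 40, []), (0, 40, []), (0, 40, []), (0, 40, []), (0, 40, []), (0, 40, []), (0, 40, []), (0, 40, []), (0, 40, []), (0, 40, []), (0, 40, []), (0, 40, []), (0, 40, []), (0, 40, []), (0, 40, []), (0, 40, []), (0, 40, []), (0, 40, []), (0, 40, []), (0, 40, [])],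
  [(0, 40, []), (0, 40, []), (0, 40, []), (0, 40, []), (0, 40, []), (0, 40, []), (0, 40, []), (0, 40, []), (0, 40, []), (0, 40, []), (0, 40, []), (0, 40, []), (0, 40, []), (0, 40, []), (0, 40, []), (0, 40, []), (0, 40, []), (0, 40, []), (0, 40, []), (0, 40, []), (0, 40, []), (0, 40, []), (0, 40, []), (0, 40, []), (0, 40, []), (0, 40, []), (0, 40, [])],
  [(0, 40, []), (0, 40, []), (0, 40, []), (0, 40, []), (0, 40, []), (0, 40, []), (0, 40, []), (0, 40, []), (0, 40, []), (0, 40, []), (0, 40, []), (0, 40, []), (0, 40, []), (0, 40, []), (0, 40, []), (0, 40, []), (0, 40, []), (0, 40, []), (0, 40, []), (0, 40, []), (0, 40, []), (0, 40, []), (0, 40, []), (0, 40, []), (0, 40, []), (0, 40, []), (0, 40, [])],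
  [(0, 40, []), (0, 40, []), (0, 40, []), (0, 40, []), (0, 40, []), (0, 40, []), (0, 40, []), (0, 40, []), (0, 40, []), (0, 40, []), (0, 40, []), (0, 40, []), (0, 40, []), (0, 40, []), (0, 40, []), (0, 40, []), (0, 40, []), (0, 40, []), (0, 40, []), (0, 40, []), (0, 40, []), (0, 40, []), (0, 40, []), (0, 40, []), (0, 40, []), (0, 40, []), (0, 40, [])],
  [(0, 40, []), (0, 40, []), (0, 40, []), (0, 40, []), (0, 40, []), (0, 40, []), (0, 40, []), (0, 40, []), (0, 40, []), (0, 40, []), (0, 40, []), (0, 40, []), (0, 40, []), (0, 40, []), (0, 40, []), (0, 40, []), (0, 40, []), (0, 40, []), (0, 40, []), (0, 40, []), (0, 40, []), (0, 40, []), (0, 40, []), (0, 40, []), (0, 40, []), (0, 40, []), (0, 40, [])]]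

end CfsgLib.Classical.O8Three
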