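import Cfsg.Agent.Lib.Classical.O8Three.Model
import Cfsg.Agent.Lib.Classical.O8Three.Data1
import Cfsg.Agent.Lib.Classical.O8Three.Data2R0
import Cfsg.Agent.Lib.Classical.O8Three.Data2R1
import Cfsg.Agent.Lib.Classical.O8Three.Data2R2
import Cfsg.Agent.Lib.Classical.O8Three.Data2R3
import Cfsg.Agent.Lib.Classical.O8Three.Data2R4
import Cfsg.Agent.Lib.Classical.O8Three.Data2R5
import Cfsg.Agent.Lib.Classical.O8Three.Data2R6
import Cfsg.Agent.Lib.Classical.O8Three.Data2R7
import Cfsg.Agent.Lib.Classical.O8Three.Data2R8
import Cfsg.Agent.Lib.Classical.O8Three.Data2R9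
import Cfsg.Agent.Lib.Classical.O8Three.Data2R10
import Cfsg.Agent.Lib.Classical.O8Three.Data2R11
import Cfsg.Agent.Lib.Classical.O8Three.Data2R12

/-!
The certificates are right.
-/

set_option autoImplicit false
set_option maxRecDepth 100000
set_option maxHeartbeats 4000000
set_option Elab.async false

namespace CfsgLib.Classical.O8Three

/-- A word of the Levi unipotent. -/
def hw (i : ℕ) : List ℕ :=
  (List.range 6).flatMap fun k => bif Nat.beq (i / 3 ^ (5 - k) % 3) 0 then [] else [2 * (12 + k) + (i / 3 ^ (5 - k) % 3 - 1)]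

/-- A word of the radical. -/
def vw (i : ℕ) : List ℕ :=
  (List.range 6).flatMap fun k => bif Nat.beq (i / 3 ^ (5 - k) % 3) 0 then [] else [2 * (18 + k) + (i / 3 ^ (5 - k) % 3 - 1)]

/-- Increasing a digit. -/
def incD (k j : ℕ) : ℕ :=
  bif Nat.beq (k / 3 ^ (5 - j) % 3) 2 then k - 2 * 3 ^ (5 - j) else k + 3 ^ (5 - j)

/-- Equal packed matrices. -/
def same (w w' : List ℕ) : Bool := Nat.beq (evW w).1 (evW w').1 && Nat.beq (evW w).2 (evW w').2

theorem pw_of_same {w w' : List ℕ} (h : same w w' = true) : pw w = pw w' := by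
  simp only [same, Bool.and_eq_true] at h
  exact pw_eq_of_ev (Prod.ext (Nat.eq_of_beq_eq_true h.1) (Nat.eq_of_beq_eq_true h.2))

/-- The radical is closed under its letters. -/
def chkRad : Bool :=
  (List.range 729).all fun k => (List.range 6).all fun j =>
    Nat.blt (incD k j) 729 && same (vw k ++ [36 + 2 * j]) (vw (incD k j))

/-- A double letter. -/
def chkDbl : Bool := (List.range 6).all fun j => same [36 + 2 * j, 36 + 2 * j] [36 + 2 * j + 1]

/-- The conjugates of the radical letters. -/
def chkNrm : Bool :=
  (List.range 24).all fun a => (List.range 12).all fun b =>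
    Nat.blt ((nrmT.getD a []).getD b 0) 729 && same [12 + a, 36 + b] (vw ((nrmT.getD a []).getD b 0) ++ [12 + a])

/-- An entry of a table. -/
def entry (T : List (List (ℕ × ℕ × List ℕ))) (i : ℕ) : ℕ × ℕ × List ℕ :=
  (T.getD (i / 27) []).getD (i % 27) (0, 0, [])

/-- The first level. -/
def chk1 : Bool :=
  (List.range 729).all fun i =>
    bif Nat.beq (entry T1 i).2.1 0 then roots1.any (fun r => Nat.beq r i)
    else (entry T1 i).2.2.all (fun k => Nat.ble 12 k && Nat.blt k 36) && Nat.blt (entry T1 i).1 729 &&
      Nat.blt (entry T1 (entry T1 i).1).2.1 (entry T1 i).2.1 &&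
      same ((entry T1 i).2.2 ++ hw i) (hw (entry T1 i).1 ++ (entry T1 i).2.2)

/-- The tables of the second level. -/
def T2 (n : ℕ) : List (List (ℕ × ℕ × List ℕ)) := [T2R0, T2R1, T2R2, T2R3, T2R4, T2R5, T2R6, T2R7, T2R8, T2R9, T2R10, T2R11, T2R12].getD n []

/-- An entry shows that the cube is not scalar. -/
def cubeBad (w : List ℕ) (b : ℕ) : Bool :=
  Nat.blt b 64 && !(Nat.beq (b / 8) (b % 8)) &&
    (Nat.testBit (evW (w ++ w ++ w)).1 b || Nat.testBit (evW (w ++ w ++ w)).2 b)

/-- The second level. -/
def chk2 (n : ℕ) : Bool :=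
  (List.range 729).all fun k =>
    let e := entry (T2 n) k
    let h := hw (roots1.getD n 0)
    bif Nat.beq e.1 0 then cubeBad (h ++ vw k) e.2.1
    else bif Nat.beq e.1 1 then
      (bif Nat.beq e.2.1 13 then same (h ++ vw k) []
        else Nat.blt e.2.1 13 && same (e.2.2 ++ (h ++ vw k)) (repW.getD e.2.1 [] ++ e.2.2))
    else Nat.blt e.2.1 729 && Nat.blt (entry (T2 n) e.2.1).1 e.1 && !(Nat.beq (entry (T2 n) e.2.1).1 0) &&
      same (e.2.2 ++ (h ++ vw k)) ((h ++ vw e.2.1) ++ e.2.2)

theorem radical_closed : chkRad = true := by decide +kernel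

theorem radical_double : chkDbl = true := by decide +kernel

theorem radical_normal : chkNrm = true := by decide +kernel

theorem step1_ok : chk1 = true := by decide +kernel

theorem step2_0 : chk2 0 = true := by decide +kernel

theorem step2_1 : chk2 1 = true := by decide +kernel

theorem step2_2 : chk2 2 = true := by decide +kernel

theorem step2_3 : chk2 3 = true := by decide +kernel

theorem step2_4 : chk2 4 = true := by decide +kernel

theorem step2_5 : chk2 5 = true := by decide +kernel

theorem step2_6 : chk2 6 = true := by decide +kernel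

theorem step2_7 : chk2 7 = true := by decide +kernel

theorem step2_8 : chk2 8 = true := by decide +kernel

theorem step2_9 : chk2 9 = true := by decide +kernel

theorem step2_10 : chk2 10 = true := by decide +kernel

theorem step2_11 : chk2 11 = true := by decide +kernel

theorem step2_12 : chk2 12 = true := by decide +kernel

theorem roots1_length : roots1.length = 13 := rfl

theorem step2_ok : ∀ n < 13, chk2 n = true := by
  intro n hn
  interval_cases n
  · exact step2_0
  · exact step2_1
  · exact step2_2
  · exact step2_3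
  · exact step2_4
  · exact step2_5
  · exact step2_6
  · exact step2_7
  · exact step2_8
  · exact step2_9
  · exact step2_10
  · exact step2_11
  · exact step2_12

end CfsgLib.Classical.O8Three
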