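import Cfsg.Agent.Lib.Classical.O8Three.Checks

/-!
Every element of order three of `PΩ⁺(8, 3)` is conjugate to one of thirteen representatives.
-/

set_option autoImplicit false
set_option maxRecDepth 100000

open Matrix

namespace CfsgLib.Classical.O8Three

open CfsgLib.Chevalley
open CfsgLib.KnownB.Aut (xG UU)

/-- A representative. -/
noncomputable def rep (j : ℕ) : P := pw (repW.getD j [])

theorem isConj_of_same {c x y : List ℕ} (h : same (c ++ x) (y ++ c) = true) : IsConj (pw x) (pw y) := by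
  have e := pw_of_same h
  rw [pw_append, pw_append] at e
  exact isConj_iff.2 ⟨pw c, by rw [e]; group⟩

theorem pair_rad (j : ℕ) (hj : j < 6) : pw [36 + 2 * j, 36 + 2 * j] = pw [36 + 2 * j + 1] := by
  have h := List.all_eq_true.1 radical_double j (List.mem_range.2 hj)
  exact pw_of_same h

theorem pw_cons (k : ℕ) (w : List ℕ) : pw (k :: w) = pw [k] * pw w := pw_append [k] w

theorem vw_zero : vw 0 = [] := by decide +kernel

theorem rad_append : ∀ (u : List ℕ), (∀ l ∈ u, 36 ≤ l ∧ l < 48) → ∀ k < 729, ∃ k' < 729, pw (vw k ++ u) = pw (vw k') := by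
  intro u
  induction u with
  | nil => intro _ k hk; exact ⟨k, hk, by simp⟩
  | cons l u ih =>
    intro hu k hk
    obtain ⟨hl1, hl2⟩ := hu l (by simp)
    have one : ∀ k < 729, ∀ j < 6, ∃ k' < 729, pw (vw k ++ [36 + 2 * j]) = pw (vw k') := fun k hk j hj => by
      have h := List.all_eq_true.1 (List.all_eq_true.1 radical_closed k (List.mem_range.2 hk)) j (List.mem_range.2 hj)
      simp only [Bool.and_eq_true] at h
      exact ⟨incD k j, by simpa [Nat.blt_eq] using h.1, pw_of_same h.2⟩
    obtain ⟨k₁, hk₁, e₁⟩ : ∃ k' < 729, pw (vw k ++ [l]) = pw (vw k') := by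
      rcases Nat.even_or_odd (l - 36) with ⟨j, hj⟩ | ⟨j, hj⟩
      · obtain ⟨k', h1, h2⟩ := one k hk j (by omega)
        exact ⟨k', h1, by rw [show l = 36 + 2 * j by omega]; exact h2⟩
      · obtain ⟨k', h1, h2⟩ := one k hk j (by omega)
        obtain ⟨k'', h3, h4⟩ := one k' h1 j (by omega)
        refine ⟨k'', h3, ?_⟩
        rw [show l = 36 + 2 * j + 1 by omega, pw_append, ← pair_rad j (by omega), pw_cons, ← mul_assoc, ← pw_append, h2,
          ← pw_append, h4]
    obtain ⟨k', hk', e'⟩ := ih (fun x hx => hu x (by simp [hx])) k₁ hk₁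
    refine ⟨k', hk', ?_⟩
    rw [pw_append, pw_cons, ← mul_assoc, ← pw_append, e₁, ← pw_append, e']

theorem rad_word (u : List ℕ) (hu : ∀ l ∈ u, 36 ≤ l ∧ l < 48) : ∃ k < 729, pw u = pw (vw k) := by
  obtain ⟨k, hk, e⟩ := rad_append u hu 0 (by norm_num)
  exact ⟨k, hk, by rw [← e, vw_zero, List.nil_append]⟩

theorem vw_letters : ∀ k < 729, ∀ l ∈ vw k, 36 ≤ l ∧ l < 48 := by
  intro k _ l hl
  simp only [vw, List.mem_flatMap, List.mem_range] at hl
  obtain ⟨a, ha, h⟩ := hl
  have ht : k / 3 ^ (5 - a) % 3 < 3 := Nat.mod_lt _ (by norm_num)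
  generalize k / 3 ^ (5 - a) % 3 = t at h ht
  cases hb : Nat.beq t 0 <;> simp [hb] at h
  subst h
  omega

theorem levi_conj : ∀ (c : List ℕ), (∀ a ∈ c, 12 ≤ a ∧ a < 36) → ∀ k < 729, ∃ k' < 729,
    pw c * pw (vw k) = pw (vw k') * pw c := by
  intro c
  induction c with
  | nil => intro _ k hk; exact ⟨k, hk, by rw [pw_nil, one_mul, mul_one]⟩
  | cons a c ih =>
    intro hc k hk
    obtain ⟨ha1, ha2⟩ := hc a (by simp)
    obtain ⟨k₁, hk₁, e₁⟩ := ih (fun x hx => hc x (by simp [hx])) k hk
    have single : ∀ (u : List ℕ), (∀ l ∈ u, 36 ≤ l ∧ l < 48) →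
        ∃ u', (∀ l ∈ u', 36 ≤ l ∧ l < 48) ∧ pw [a] * pw u = pw u' * pw [a] := by
      intro u
      induction u with
      | nil => intro _; exact ⟨[], by simp, by rw [pw_nil, one_mul, mul_one]⟩
      | cons l u ihu =>
        intro hu
        obtain ⟨hl1, hl2⟩ := hu l (by simp)
        have h := List.all_eq_true.1 (List.all_eq_true.1 radical_normal (a - 12) (List.mem_range.2 (by omega))) (l - 36)
          (List.mem_range.2 (by omega))
        simp only [Bool.and_eq_true] at h
        rw [show 12 + (a - 12) = a by omega, show 36 + (l - 36) = l by omega] at h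
        generalize (nrmT.getD (a - 12) []).getD (l - 36) 0 = m at h
        have hm : m < 729 := by simpa [Nat.blt_eq] using h.1
        have e := pw_of_same h.2
        rw [pw_cons, pw_append] at e
        obtain ⟨u', hu', e'⟩ := ihu fun x hx => hu x (by simp [hx])
        refine ⟨vw m ++ u', fun x hx => ?_, ?_⟩
        · rcases List.mem_append.1 hx with hx | hx
          exacts [vw_letters m hm x hx, hu' x hx]
        · rw [pw_cons l u, ← mul_assoc, e, mul_assoc, e', ← mul_assoc, pw_append]
    obtain ⟨u', hu', e'⟩ := single (vw k₁) (vw_letters k₁ hk₁)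
    obtain ⟨k', hk', e''⟩ := rad_word u' hu'
    refine ⟨k', hk', ?_⟩
    rw [pw_cons, mul_assoc, e₁, ← mul_assoc, e', mul_assoc, e'']

theorem step1_conj (i : ℕ) (hi : i < 729) (k : ℕ) (hk : k < 729) :
    ∃ n < 13, ∃ k' < 729, IsConj (pw (hw i ++ vw k)) (pw (hw (roots1.getD n 0) ++ vw k')) := by
  induction hd : (entry T1 i).2.1 using Nat.strong_induction_on generalizing i k with
  | _ d ih =>
    have h := List.all_eq_true.1 step1_ok i (List.mem_range.2 hi)
    cases hz : Nat.beq (entry T1 i).2.1 0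
    · simp only [hz, cond_false, Bool.and_eq_true, List.all_eq_true, Nat.ble_eq, Nat.blt_eq] at h
      obtain ⟨⟨⟨hc, hp⟩, hrk⟩, hs⟩ := h
      obtain ⟨k₁, hk₁, e₁⟩ := levi_conj (entry T1 i).2.2 (fun a ha => hc a ha) k hk
      obtain ⟨n, hn, k', hk', hcj⟩ := ih _ (hd ▸ hrk) (entry T1 i).1 hp k₁ hk₁ rfl
      refine ⟨n, hn, k', hk', IsConj.trans ?_ hcj⟩
      have e := pw_of_same hs
      rw [pw_append, pw_append] at e
      refine isConj_iff.2 ⟨pw (entry T1 i).2.2, ?_⟩
      rw [pw_append, pw_append, ← mul_assoc, e, mul_assoc (pw (hw _)), e₁, ← mul_assoc]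
      group
    · simp only [hz, cond_true, List.any_eq_true] at h
      obtain ⟨r, hr, hri⟩ := h
      obtain ⟨n, hn, e⟩ := List.getElem_of_mem hr
      refine ⟨n, by rwa [roots1_length] at hn, k, hk, ?_⟩
      rw [List.getD_eq_getElem _ _ hn, e, Nat.eq_of_beq_eq_true hri]

theorem step2_conj (n : ℕ) (hn : n < 13) (k : ℕ) (hk : k < 729)
    (h3 : pw (hw (roots1.getD n 0) ++ vw k) ^ 3 = 1) :
    pw (hw (roots1.getD n 0) ++ vw k) = 1 ∨ ∃ j < 13, IsConj (pw (hw (roots1.getD n 0) ++ vw k)) (rep j) := by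
  induction hd : (entry (T2 n) k).1 using Nat.strong_induction_on generalizing k with
  | _ d ih =>
    have h := List.all_eq_true.1 (step2_ok n hn) k (List.mem_range.2 hk)
    cases hz : Nat.beq (entry (T2 n) k).1 0
    · cases h1 : Nat.beq (entry (T2 n) k).1 1
      · simp only [hz, h1, cond_false, Bool.and_eq_true, Nat.blt_eq] at h
        obtain ⟨⟨⟨hp, hrk⟩, -⟩, hs⟩ := h
        have hc := isConj_of_same hs
        have h3' : pw (hw (roots1.getD n 0) ++ vw (entry (T2 n) k).2.1) ^ 3 = 1 := by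
          obtain ⟨g, hg⟩ := isConj_iff.1 hc
          rw [← hg, conj_pow, h3, mul_one, mul_inv_cancel]
        rcases ih _ (hd ▸ hrk) _ hp h3' rfl with h' | ⟨j, hj, h'⟩
        · left
          obtain ⟨g, hg⟩ := isConj_iff.1 hc
          rw [h'] at hg
          exact conj_eq_one_iff.1 hg
        · exact Or.inr ⟨j, hj, hc.trans h'⟩
      · cases h13 : Nat.beq (entry (T2 n) k).2.1 13
        · simp only [hz, h1, h13, cond_false, cond_true, Bool.and_eq_true, Nat.blt_eq] at h
          exact Or.inr ⟨_, h.1, isConj_of_same h.2⟩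
        · simp only [hz, h1, h13, cond_false, cond_true] at h
          exact Or.inl ((pw_of_same h).trans pw_nil)
    · exfalso
      simp only [hz, cond_true, cubeBad, Bool.and_eq_true, Nat.blt_eq, Bool.not_eq_true', Bool.or_eq_true] at h
      obtain ⟨⟨hb, hne⟩, hbit⟩ := h
      set w := hw (roots1.getD n 0) ++ vw k
      set b := (entry (T2 n) k).2.1
      have hw3 : pw (w ++ w ++ w) = 1 := by rw [pw_append, pw_append, ← h3, pow_three, mul_assoc]
      have hne' : b / 8 ≠ b % 8 := fun h => by rw [h] at hne; simp at hne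
      have hpi : bitAt (unpos (b % 8)) (unpos (b / 8)) = b := by
        rw [bitAt, pos_unpos (by omega), pos_unpos (by omega)]; omega
      have hu : unpos (b % 8) ≠ unpos (b / 8) := fun h => hne' (by
        have := congrArg pos h
        rw [pos_unpos (by omega), pos_unpos (by omega)] at this
        exact this.symm)
      have hv : dec (evW (w ++ w ++ w)) (unpos (b % 8)) (unpos (b / 8)) ≠ 0 := by
        show val3 _ _ ≠ 0
        rw [hpi]
        rcases hbit with hbit | hbit <;> rw [hbit]
        · simp [val3]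
        · cases (evW (w ++ w ++ w)).1.testBit b <;> simp [val3] <;> decide
      rcases dec_of_pw_one hw3 with h' | h' <;> rw [h'] at hv
      · exact hv (Matrix.one_apply_ne hu)
      · exact hv (by rw [Matrix.neg_apply, Matrix.one_apply_ne hu, neg_zero])

/-- The trivial root element. -/
theorem xG_zero {T : Tbl} {F : Type*} [Field F] (hT : T.Valid) (r : Fin T.n) : xG hT r (0 : F) = 1 :=
  Subtype.ext (Tbl.xU_zero hT r.2)

/-- The word of six parameters in the roots from `b`. -/
def wordOf (b : ℕ) (d : Fin 6 → Fin 3) : List ℕ :=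
  (List.finRange 6).flatMap fun k => bif Nat.beq (d k).val 0 then [] else [2 * (b + k.val) + ((d k).val - 1)]

/-- The number of six digits. -/
def numOf (d : Fin 6 → Fin 3) : ℕ := ((List.finRange 6).map fun k => (d k).val * 3 ^ (5 - k.val)).sum

theorem hw_numOf : ∀ d : Fin 6 → Fin 3, numOf d < 729 ∧ hw (numOf d) = wordOf 12 d ∧ vw (numOf d) = wordOf 18 d := by
  decide +kernel

set_option maxHeartbeats 1000000 in
theorem pw_wordOf (b : ℕ) (hb : b + 6 ≤ 24) (f : ℕ → K) :
    pw (wordOf b fun k => f (b + k.val)) =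
      E ((List.finRange 6).map fun k : Fin 6 => xG Data.D4.valid ⟨b + k.val, by rw [n_tbl]; omega⟩ (f (b + k.val))).prod := by
  simp only [wordOf]
  induction List.finRange 6 with
  | nil => simp [pw_nil]
  | cons k l ih =>
    rw [List.flatMap_cons, pw_append, ih, List.map_cons, List.prod_cons, map_mul]
    congr 1
    have h3 : ∀ t : K, t = 0 ∨ t = 1 ∨ t = 2 := by decide
    rcases h3 (f (b + k.val)) with h | h | h <;> rw [h]
    · rw [show xG Data.D4.valid ⟨b + k.val, _⟩ (0 : K) = 1 from
        xG_zero Data.D4.valid _, map_one]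
      exact pw_nil
    · show pw [2 * (b + k.val)] = _
      simp only [pw, List.map_cons, List.map_nil, List.prod_cons, List.prod_nil, mul_one, letter]
      congr 2
      · exact Fin.ext (by show (2 * (b + k.val)) % 48 / 2 = b + k.val; omega)
      · rw [show lt (2 * (b + k.val)) = 1 by unfold lt; omega]; norm_num
    · show pw [2 * (b + k.val) + 1] = _
      simp only [pw, List.map_cons, List.map_nil, List.prod_cons, List.prod_nil, mul_one, letter]
      congr 2
      · exact Fin.ext (by show (2 * (b + k.val) + 1) % 48 / 2 = b + k.val; omega)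
      · rw [show lt (2 * (b + k.val) + 1) = 2 by unfold lt; omega]; norm_num

theorem range'_split : List.range' 12 12 = (List.finRange 6).map (fun k : Fin 6 => 12 + k.val) ++
    (List.finRange 6).map (fun k : Fin 6 => 18 + k.val) := by decide +kernel

/-- An element of the positive unipotent group as a product over two runs of roots. -/
theorem uu_prod {T : Tbl} {F : Type*} [Field F] (hT : T.Valid) (hC : T.chkComm = true) {ι : Type}
    (l₁ l₂ : List ι) (r₁ r₂ : ι → Fin T.n)
    (hsplit : List.range' T.half T.half = l₁.map (fun k => (r₁ k).val) ++ l₂.map (fun k => (r₂ k).val))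
    (u : ↥(T.datum.group F)) (hu : u ∈ UU T F) :
    ∃ f : ℕ → F, u = (l₁.map fun k => xG hT (r₁ k) (f (r₁ k).val)).prod *
      (l₂.map fun k => xG hT (r₂ k) (f (r₂ k).val)).prod := by
  have hu' : (u : GL T.I F) ∈ T.datum.posUnipotent F := hu
  rw [Tbl.posUnipotent_rootGen hT] at hu'
  obtain ⟨f, hf⟩ := Tbl.exists_uProd hT hC T.half T.half (Nat.two_mul _).symm le_rfl _ hu'
  refine ⟨f, Subtype.ext ?_⟩
  rw [hf, Tbl.uProd, hsplit, List.map_append, List.prod_append, Subgroup.coe_mul, Subgroup.val_list_prod,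
    Subgroup.val_list_prod, List.map_map, List.map_map, List.map_map, List.map_map]
  rfl

/-- An element of order `p` is conjugate into the positive unipotent group. -/
theorem uu_sylow {T : Tbl} {F : Type*} [Field F] [Fintype F] (hT : T.Valid) (hC : T.chkComm = true) (p : ℕ)
    [Fact p.Prime] [CharP F p] (g : ↥(T.datum.group F)) (hg : orderOf g = p) :
    ∃ a, a * g * a⁻¹ ∈ UU T F := by
  classical
  have hU : IsPGroup p ↥(UU T F) := CfsgLib.KnownB.Steinberg.isPGroup_pos hT hC p
  have hidx : ¬ p ∣ (UU T F).index := by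
    have h := CfsgLib.KnownB.Steinberg.index_pos (F := F) hT hC p (Finset.range T.rank)
    rwa [CfsgLib.KnownB.Steinberg.parabolicIn_range hT hC, ← Subgroup.relIndex, Subgroup.relIndex_top_right] at h
  let S : Sylow p ↥(T.datum.group F) := hU.toSylow hidx
  have hp : IsPGroup p ↥(Subgroup.zpowers g) :=
    IsPGroup.of_card (n := 1) (by rw [Nat.card_zpowers, hg, pow_one])
  obtain ⟨Q, hQ⟩ := hp.exists_le_sylow
  obtain ⟨a, ha⟩ := MulAction.exists_smul_eq ↥(T.datum.group F) Q S
  refine ⟨a, ?_⟩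
  have h1 : a * g * a⁻¹ ∈ ((a • Q : Sylow p ↥(T.datum.group F)) : Subgroup ↥(T.datum.group F)) := by
    rw [Sylow.coe_subgroup_smul]
    exact ⟨g, hQ (Subgroup.mem_zpowers g), rfl⟩
  rw [ha] at h1
  exact h1

theorem tbl_half : Data.D4.tbl.half = 12 := rfl

theorem pos_word (u : Γ) (hu : u ∈ UU Data.D4.tbl K) : ∃ i < 729, ∃ k < 729, E u = pw (hw i ++ vw k) := by
  obtain ⟨f, hf⟩ := uu_prod Data.D4.valid Data.D4.chkComm (List.finRange 6) (List.finRange 6)
    (fun k => ⟨12 + k.val, by rw [n_tbl]; omega⟩) (fun k => ⟨18 + k.val, by rw [n_tbl]; omega⟩)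
    (by rw [tbl_half]; exact range'_split) u hu
  obtain ⟨hi, hih, -⟩ := hw_numOf fun k => f (12 + k.val)
  obtain ⟨hk, -, hkv⟩ := hw_numOf fun k => f (18 + k.val)
  refine ⟨_, hi, _, hk, ?_⟩
  rw [pw_append, hih, hkv, pw_wordOf 12 (by norm_num), pw_wordOf 18 (by norm_num), ← map_mul, ← hf]

theorem exists_rep {y : P} (hy : orderOf y = 3) : ∃ j < 13, IsConj y (rep j) := by
  have hy3 : y ^ 3 = 1 := by
    have h := pow_orderOf_eq_one y
    rwa [hy] at h
  set g := E.symm y with hg
  have hg3 : orderOf g = 3 := by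
    refine orderOf_eq_prime ?_ ?_
    · rw [hg, ← map_pow, hy3, map_one]
    · intro h
      have h1 : y = 1 := by rw [← E.apply_symm_apply y, ← hg, h, map_one]
      rw [h1, orderOf_one] at hy
      norm_num at hy
  obtain ⟨a, hu⟩ := uu_sylow Data.D4.valid Data.D4.chkComm 3 g hg3
  obtain ⟨i, hi, k, hk, e⟩ := pos_word _ hu
  obtain ⟨n, hn, k', hk', hc⟩ := step1_conj i hi k hk
  have hy' : IsConj y (pw (hw i ++ vw k)) := isConj_iff.2 ⟨E a, by
    rw [← e, map_mul, map_mul, map_inv, hg, E.apply_symm_apply]⟩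
  obtain ⟨z, hz⟩ := isConj_iff.1 (hy'.trans hc)
  have h3 : pw (hw (roots1.getD n 0) ++ vw k') ^ 3 = 1 := by
    rw [← hz, conj_pow, hy3, mul_one, mul_inv_cancel]
  rcases step2_conj n hn k' hk' h3 with h | ⟨j, hj, h⟩
  · rw [h] at hz
    rw [conj_eq_one_iff.1 hz, orderOf_one] at hy
    norm_num at hy
  · exact ⟨j, hj, (hy'.trans hc).trans h⟩

end CfsgLib.Classical.O8Three
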