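import Cfsg.Agent.Lib.Classical.O8Three.Orbits
import Cfsg.Agent.S5515

/-!
An extension of `PΩ⁺(8, 3)` by a symmetric group of degree three induces the group of automorphisms generated by
the inner ones and two graph automorphisms, after a change of the identification.
-/

set_option autoImplicit false
set_option maxRecDepth 100000
set_option Elab.async false

namespace CfsgLib.Classical.O8Three

open CfsgLib.Chevalley
open CfsgLib.KnownB.Aut (xG NS Acts diagD4 piD4 flipPiD4 toOut)
open CfsgLib.KnownB.Aut.D4Out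

theorem transport_eq_congr {A B : Type*} [Group A] [Group B] (e : A ≃* B) (α : MulAut A) :
    (e.symm.trans α).trans e = MulAut.congr e α := MulEquiv.ext fun _ => rfl

theorem congr_mem_inn {A B : Type*} [Group A] [Group B] (e : A ≃* B) (α : MulAut A) :
    MulAut.congr e α ∈ Cfsg.Inn B ↔ α ∈ Cfsg.Inn A := by
  rw [← CfsgLib.KnownC.AutPOmega.congr_inn e, Subgroup.mem_map]
  exact ⟨fun ⟨y, hy, h⟩ => (MulAut.congr e).injective h ▸ hy, fun h => ⟨α, h, rfl⟩⟩

theorem card_map_eq {A B C : Type*} [Group A] [Group B] [Group C] {f : A →* B} {g : A →* C}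
    (h : f.ker = g.ker) (S : Subgroup A) : Nat.card (S.map f) = Nat.card (S.map g) := by
  rw [show Nat.card (S.map f) = (f.comp S.subtype).ker.index by
    rw [Subgroup.index_ker, MonoidHom.range_comp, Subgroup.range_subtype]]
  have e' : Nat.card (S.map g) = (g.comp S.subtype).ker.index := by
    rw [Subgroup.index_ker, MonoidHom.range_comp, Subgroup.range_subtype]
  rw [e', ← MonoidHom.comap_ker, ← MonoidHom.comap_ker, h]

/-- The six symmetries as a subgroup. -/
def symGroup : Subgroup (Equiv.Perm Node) where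
  carrier := {π | π ∈ syms6}
  one_mem' := (by decide +kernel : (1 : Equiv.Perm Node) ∈ syms6)
  mul_mem' := fun {a b} ha hb =>
    (by decide +kernel : ∀ a ∈ syms6, ∀ b ∈ syms6, a * b ∈ syms6) a ha b hb
  inv_mem' := fun {a} ha => (by decide +kernel : ∀ a ∈ syms6, a⁻¹ ∈ syms6) a ha

theorem card_closure_sym : Nat.card (Subgroup.closure ({piD4, flipPiD4} : Set (Equiv.Perm Node))) = 6 := by
  have e : Subgroup.closure ({piD4, flipPiD4} : Set (Equiv.Perm Node)) = symGroup := by
    refine le_antisymm ((Subgroup.closure_le _).2 ?_) fun π hπ => ?_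
    · rintro x (rfl | rfl)
      · exact (by decide +kernel : piD4 ∈ syms6)
      · exact (by decide +kernel : flipPiD4 ∈ syms6)
    · have ha : piD4 ∈ Subgroup.closure ({piD4, flipPiD4} : Set (Equiv.Perm Node)) :=
        Subgroup.subset_closure (Or.inl rfl)
      have hb : flipPiD4 ∈ Subgroup.closure ({piD4, flipPiD4} : Set (Equiv.Perm Node)) :=
        Subgroup.subset_closure (Or.inr rfl)
      change π ∈ syms6 at hπ
      simp only [syms6, Finset.mem_insert, Finset.mem_singleton] at hπ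
      rcases hπ with rfl | rfl | rfl | rfl | rfl | rfl
      exacts [one_mem _, ha, mul_mem ha ha, hb, mul_mem ha hb, mul_mem (mul_mem ha ha) hb]
  rw [e, ← syms6_card, ← Set.ncard_coe_finset, ← Nat.card_coe_set_eq]
  rfl

theorem card_out_closure {A B C : Type*} [Group A] [Group B] [Group C] (e : A ≃* B) (N : Subgroup (MulAut A))
    (ψ : N →* C) (hk : ψ.ker = ((QuotientGroup.mk' (Cfsg.Inn A)).comp N.subtype).ker) (a b : N) :
    Nat.card ((Cfsg.Inn B ⊔ Subgroup.closure {MulAut.congr e a.1, MulAut.congr e b.1}).map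
      (QuotientGroup.mk' (Cfsg.Inn B))) = Nat.card (Subgroup.closure {ψ a, ψ b}) := by
  let ω : N →* Cfsg.Out B :=
    (QuotientGroup.mk' (Cfsg.Inn B)).comp ((MulAut.congr e).toMonoidHom.comp N.subtype)
  have hker : ω.ker = ψ.ker := by
    rw [hk]
    ext θ
    simp only [MonoidHom.mem_ker, ω, MonoidHom.comp_apply, QuotientGroup.mk'_apply,
      QuotientGroup.eq_one_iff]
    exact congr_mem_inn e θ.1
  have h0 : (Cfsg.Inn B).map (QuotientGroup.mk' (Cfsg.Inn B)) = ⊥ :=
    (Subgroup.map_eq_bot_iff _).2 (by rw [QuotientGroup.ker_mk'])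
  have e1 : (Subgroup.closure {a, b}).map ω = (Subgroup.closure
      {MulAut.congr e a.1, MulAut.congr e b.1}).map (QuotientGroup.mk' (Cfsg.Inn B)) := by
    rw [MonoidHom.map_closure, MonoidHom.map_closure, Set.image_pair, Set.image_pair]
    rfl
  rw [Subgroup.map_sup, h0, bot_sup_eq, ← e1, card_map_eq hker, MonoidHom.map_closure, Set.image_pair]

theorem card_closure_inl {C D : Type*} [Group C] [Group D] (x y : C) :
    Nat.card (Subgroup.closure {((x, 1) : C × D), (y, 1)}) = Nat.card (Subgroup.closure {x, y}) := by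
  have e : ({(x, 1), (y, 1)} : Set (C × D)) = MonoidHom.inl C D '' {x, y} := by rw [Set.image_pair]; rfl
  rw [e, ← MonoidHom.map_closure, Subgroup.card_map_of_injective fun x y h => congrArg Prod.fst h]

theorem card_out_closure' {X B C : Type*} [Group X] [Group B] [Group C] (S : Subgroup X) (e : S ≃* B)
    (N : Subgroup (MulAut S)) (ψ : N →* C) (hk : ψ.ker = ((QuotientGroup.mk' (Cfsg.Inn S)).comp N.subtype).ker)
    (a b : N) :
    Nat.card ((Cfsg.Inn B ⊔ Subgroup.closure {((e.symm.trans a.1).trans e : MulAut B), (e.symm.trans b.1).trans e}).map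
      (QuotientGroup.mk' (Cfsg.Inn B))) = Nat.card (Subgroup.closure {ψ a, ψ b}) := by
  rw [transport_eq_congr e a.1, transport_eq_congr e b.1]
  exact card_out_closure e N ψ hk a b

theorem exists_alpha : ∃ hg : (alpha : MulAut Γ) ∈ NS Data.D4.tbl K,
    psi (F := K) 3 ⟨alpha, hg⟩ = (piD4, 1) := by
  obtain ⟨g, hg, hga⟩ := CfsgLib.KnownB.Aut.graph_d4 (F := K) 3
  have ea : alpha = g := acts_of_graph Data.D4.chk_graph alpha_spec hga (by decide +kernel)
  refine ⟨ea ▸ hg, ?_⟩
  rw [psi_eq 3 (θ := ⟨alpha, ea ▸ hg⟩) (π := piD4) (σ := 1) (c := 1) (ea ▸ hga), kc_one, tr_one, mul_one]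

theorem exists_beta : ∃ hg : (beta : MulAut Γ) ∈ NS Data.D4.tbl K,
    psi (F := K) 3 ⟨beta, hg⟩ = (flipPiD4, 1) := by
  obtain ⟨g, hg, hga⟩ := CfsgLib.KnownB.Aut.flip_d4 (F := K) 3
  have ea : beta = g := acts_of_graph CfsgLib.KnownB.Aut.chk_flipD4 beta_spec hga (by decide +kernel)
  refine ⟨ea ▸ hg, ?_⟩
  rw [psi_eq 3 (θ := ⟨beta, ea ▸ hg⟩) (π := flipPiD4) (σ := 1) (c := 1) (ea ▸ hga), kc_one, tr_one, mul_one]

theorem ker_psi : (psi (F := K) 3).ker = (toOut Data.D4.tbl K).ker :=
  (out_odd (F := K) 3 (f := 1) (by rw [ZMod.card, pow_one]) (by norm_num)).2.1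

theorem card_out_graph :
    Nat.card ((Cfsg.Inn P ⊔ Subgroup.closure {autP alpha, autP beta}).map
      (QuotientGroup.mk' (Cfsg.Inn P))) = 6 := by
  obtain ⟨hg, ea⟩ := exists_alpha
  obtain ⟨hh, eb⟩ := exists_beta
  refine (card_out_closure' _ E (NS Data.D4.tbl K) (psi (F := K) 3) ker_psi ⟨alpha, hg⟩ ⟨beta, hh⟩).trans ?_
  rw [ea, eb]
  exact (card_closure_inl _ _).trans card_closure_sym

/-- The image of the two graph automorphisms in the outer group has order six. -/
theorem card_H0_out : Nat.card (H0.map (QuotientGroup.mk' (Cfsg.Inn P))) = 6 := card_out_graph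

theorem conj_injective : Function.Injective (MulAut.conj : P →* MulAut P) := by
  haveI := CfsgLib.KnownC.AutPOmega.octx0_plus (F := K) (m := 4) le_rfl
  have hcard := Cfsg.Agent.S0817.card_inn0 (CfsgLib.Orth.plusForm K 4)
    (CfsgLib.Orth.plusForm_apply (F := K) 4)
  have hb := (Nat.bijective_iff_surjective_and_card (MulAut.conj : P →* MulAut P).rangeRestrict).2
    ⟨MonoidHom.rangeRestrict_surjective _, hcard.symm⟩
  exact fun x y hxy => hb.1 (Subtype.ext hxy)

/-- The identification can be chosen so that the group induces exactly the given group of automorphisms. -/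
theorem exists_action {X : Type*} [Group X] [Finite X] {A : Type} [Group A] [Finite A] (F : Subgroup X)
    [F.Normal] (hcen : Subgroup.centralizer (F : Set X) ≤ F) (e : F ≃* A)
    (hinj : Function.Injective (MulAut.conj : A →* MulAut A)) (e4 : Cfsg.Out A ≃* Equiv.Perm (Fin 4))
    (H : Subgroup (MulAut A)) (hH : Cfsg.Inn A ≤ H)
    (h6 : Nat.card (H.map (QuotientGroup.mk' (Cfsg.Inn A))) = 6) (hX : Nat.card (X ⧸ F) = 6) :
    ∃ (f : F ≃* A) (θ : X →* MulAut A), θ.range = H ∧
      ∀ (x : X) (y : F), f (MulAut.conjNormal x y) = θ x (f y) := by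
  let φ : X →* MulAut A := (MulAut.congr e).toMonoidHom.comp (MulAut.conjNormal (H := F))
  have hφ : ∀ (x : X) (l : A), φ x l = e (MulAut.conjNormal x (e.symm l)) := fun x l => rfl
  have hin : ∀ f : F, φ f = MulAut.conj (e f) := fun f => MulEquiv.ext fun l => by
    rw [hφ, MulAut.conj_apply]
    have : MulAut.conjNormal (f : X) (e.symm l) = f * e.symm l * f⁻¹ := Subtype.ext (by simp)
    rw [this, map_mul, map_mul, map_inv, e.apply_symm_apply]
  have hinjφ : Function.Injective φ := (injective_iff_map_eq_one φ).2 fun x hx => by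
    have hxC : x ∈ Subgroup.centralizer (F : Set X) := Subgroup.mem_centralizer_iff.2 fun f hf => by
      have h := MulEquiv.congr_fun hx (e ⟨f, hf⟩)
      rw [hφ, MulAut.one_apply, e.symm_apply_apply] at h
      have h2 := congrArg Subtype.val (e.injective h)
      rw [MulAut.conjNormal_apply] at h2
      exact (mul_inv_eq_iff_eq_mul.1 h2).symm
    have h := hin ⟨x, hcen hxC⟩
    rw [hx] at h
    have h1 : e ⟨x, hcen hxC⟩ = 1 := hinj (by rw [← h, map_one])
    exact congrArg Subtype.val (e.map_eq_one_iff.1 h1)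
  have hInn : Cfsg.Inn A ≤ φ.range := by
    rintro _ ⟨l, rfl⟩
    exact ⟨e.symm l, by rw [hin, e.apply_symm_apply]⟩
  set π := QuotientGroup.mk' (Cfsg.Inn A)
  have hc : Nat.card (φ.range.map π) = 6 := by
    rw [← MonoidHom.range_comp, ← Subgroup.index_ker, ← hX]
    have hker : (π.comp φ).ker = F := by
      ext x
      rw [MonoidHom.mem_ker, MonoidHom.comp_apply, QuotientGroup.mk'_apply, QuotientGroup.eq_one_iff]
      constructor
      · rintro ⟨l, hl⟩
        have : φ x = φ (e.symm l : F) := by rw [hin, e.apply_symm_apply, hl]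
        rw [hinjφ this]
        exact (e.symm l).2
      · exact fun hx => ⟨e ⟨x, hx⟩, (hin ⟨x, hx⟩).symm⟩
    rw [hker]
    rfl
  have hcard : ∀ S : Subgroup (Cfsg.Out A), Nat.card (S.map e4.toMonoidHom) = Nat.card S :=
    fun S => (Nat.card_congr (e4.subgroupMap S).toEquiv).symm
  obtain ⟨g, hg⟩ := Cfsg.Agent.S5515.conjugate_of_card_six (H := (φ.range.map π).map e4.toMonoidHom)
    (K := (H.map π).map e4.toMonoidHom) (by rw [hcard, hc]) (by rw [hcard, h6])
  obtain ⟨a, ha⟩ := QuotientGroup.mk'_surjective (Cfsg.Inn A) (e4.symm g)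
  have hπa : e4 (π a) = g := by rw [ha, e4.apply_symm_apply]
  have hcomp : (e4.toMonoidHom.comp π).comp (MulAut.conj a).toMonoidHom
      = (MulAut.conj g).toMonoidHom.comp (e4.toMonoidHom.comp π) := MonoidHom.ext fun x => by
    simp [hπa]
  have hmap : (φ.range.map (MulAut.conj a).toMonoidHom).map π = H.map π := by
    apply Subgroup.map_injective (f := e4.toMonoidHom) e4.injective
    rw [Subgroup.map_map, Subgroup.map_map, hcomp, ← Subgroup.map_map, ← Subgroup.map_map, hg]
  have hle : Cfsg.Inn A ≤ φ.range.map (MulAut.conj a).toMonoidHom := by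
    intro x hx
    exact ⟨a⁻¹ * x * a, hInn (by simpa using (Cfsg.innNormal A).conj_mem x hx a⁻¹),
      by simp [mul_assoc]⟩
  have heq : φ.range.map (MulAut.conj a).toMonoidHom = H := by
    have := congrArg (Subgroup.comap π) hmap
    rwa [Subgroup.comap_map_eq, Subgroup.comap_map_eq, QuotientGroup.ker_mk', sup_of_le_left hle,
      sup_of_le_left hH] at this
  refine ⟨e.trans a, (MulAut.conj a).toMonoidHom.comp φ, by rw [MonoidHom.range_comp, heq], fun x y => ?_⟩
  show a (e (MulAut.conjNormal x y)) = a (φ x (a.symm (a (e y))))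
  rw [MulEquiv.symm_apply_apply, hφ, e.symm_apply_apply]

/-- Conjugation classes of the subgroups of order three of a normal copy of `P` inducing `H0`. -/
theorem seven_orbits {X : Type*} [Group X] (F : Subgroup X) [F.Normal] (f : F ≃* P) (θ : X →* MulAut P)
    (hθ : θ.range = H0) (hact : ∀ (x : X) (y : F), f (MulAut.conjNormal x y) = θ x (f y)) :
    ∃ Y : Fin 7 → Subgroup X, (∀ i, Y i ≤ F ∧ Nat.card (Y i) = 3) ∧
      (∀ i j, (∃ g : X, (Y i).map (MulAut.conj g).toMonoidHom = Y j) → i = j) ∧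
      ∀ Z : Subgroup X, Z ≤ F → Nat.card Z = 3 → ∃ i, ∃ g : X, Z.map (MulAut.conj g).toMonoidHom = Y i := by
  let ι : P →* X := F.subtype.comp f.symm.toMonoidHom
  have hι : Function.Injective ι := F.subtype_injective.comp f.symm.injective
  have hr : ι.range = F := by
    ext x
    exact ⟨fun ⟨p, hp⟩ => hp ▸ (f.symm p).2, fun hx => ⟨f ⟨x, hx⟩, by simp [ι]⟩⟩
  have hcomm : ∀ (g : X) (S : Subgroup P),
      (S.map ι).map (MulAut.conj g).toMonoidHom = (S.map (θ g).toMonoidHom).map ι := by
    intro g S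
    rw [Subgroup.map_map, Subgroup.map_map]
    congr 1
    refine MonoidHom.ext fun p => ?_
    have h := hact g (f.symm p)
    rw [f.apply_symm_apply] at h
    show g * (f.symm p : X) * g⁻¹ = (f.symm (θ g p) : X)
    rw [← h, f.symm_apply_apply, MulAut.conjNormal_apply]
  refine ⟨fun m => (Yo m).map ι, fun m => ⟨?_, ?_⟩, ?_, ?_⟩
  · exact (Subgroup.map_le_range _ _).trans hr.le
  · exact (Subgroup.card_map_of_injective hι).trans (card_Yr (orbR_lt m.val m.2).1)
  · rintro i j ⟨g, hg⟩
    rw [hcomm] at hg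
    exact orbit_inj (hθ ▸ ⟨g, rfl⟩) (Subgroup.map_injective hι hg)
  · intro Z hZ h3
    have eZ : (Z.comap ι).map ι = Z := Subgroup.map_comap_eq_self (hr.symm ▸ hZ)
    have hc : Nat.card (Z.comap ι) = 3 := by
      rw [← Subgroup.card_map_of_injective hι (K := Z.comap ι), eZ, h3]
    obtain ⟨m, t, ht, hm⟩ := orbit_surj hc
    rw [← hθ] at ht
    obtain ⟨g, rfl⟩ := ht
    exact ⟨m, g, by rw [← eZ, hcomm, hm]⟩

theorem thirteen_classes :
    ∃ Y : Fin 13 → Subgroup P, (∀ i, Nat.card (Y i) = 3) ∧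
      (∀ i j, (∃ g : P, (Y i).map (MulAut.conj g).toMonoidHom = Y j) → i = j) ∧
      ∀ X : Subgroup P, Nat.card X = 3 → ∃ i, ∃ g : P, X.map (MulAut.conj g).toMonoidHom = Y i := by
  have h0 : ∀ i : Fin 13, CL (Yr i.val) i.val :=
    fun i => ⟨i.2, 1, by rw [map_one]; exact Subgroup.map_id _⟩
  refine ⟨fun i => Yr i.val, fun i => card_Yr i.2, fun i j ⟨g, hg⟩ => ?_, fun X hX => ?_⟩
  · exact Fin.ext (cl_unique (h0 i) ⟨j.2, g, hg⟩)
  · obtain ⟨j, hj, g, hg⟩ := cl_exists hX
    exact ⟨⟨j, hj⟩, g, hg⟩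

end CfsgLib.Classical.O8Three
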