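import Cfsg.Agent.Lib.Classical.O8Three.Classes
import Cfsg.Agent.Lib.Classical.O8Three.Data3

/-!
An invariant of elements of order three of `PΩ⁺(8, 3)`: the congruence classes of the forms
`B((x - 1)² u, v)` of the element and of its images under triality.
-/

set_option autoImplicit false
set_option maxRecDepth 100000
set_option maxHeartbeats 1000000
set_option Elab.async false

open Matrix

namespace CfsgLib.Classical.O8Three

open CfsgLib.Chevalley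

/-- The Gram matrix of the hyperbolic form. -/
def Jm : Mat := Matrix.of fun i j => if Sum.swap i = j then 1 else 0

/-- The form `B((x - 1)² u, v)`. -/
def gForm (W : Mat) : Mat := ((W - 1) * (W - 1))ᵀ * Jm

/-- The diagonal entries of the five forms. -/
def diagVal : ℕ → K × K
  | 1 => (1, 0)
  | 2 => (2, 0)
  | 3 => (1, 1)
  | 4 => (1, 2)
  | _ => (0, 0)

/-- The five forms. -/
def Dk (k : ℕ) : Mat :=
  Matrix.diagonal fun i => if i = Sum.inl 0 then (diagVal k).1 else if i = Sum.inl 1 then (diagVal k).2 else 0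

/-- The form of a matrix is congruent to the form `k`. -/
def Cong (W : Mat) (k : ℕ) : Prop :=
  ∃ A A' : Mat, A * A' = 1 ∧ A' * A = 1 ∧ Aᵀ * gForm W * A = Dk k

/-- The predicates separating the five forms. -/
def Sep (G : Mat) : Prop × Prop × Prop :=
  (∃ v, v ⬝ᵥ G *ᵥ v = 1, ∃ v, v ⬝ᵥ G *ᵥ v = 2, ∃ v, G *ᵥ v ≠ 0 ∧ v ⬝ᵥ G *ᵥ v = 0)

theorem sep_congr {G A A' : Mat} (h : A * A' = 1) :
    ((Sep (Aᵀ * G * A)).1 ↔ (Sep G).1) ∧ ((Sep (Aᵀ * G * A)).2.1 ↔ (Sep G).2.1) ∧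
      ((Sep (Aᵀ * G * A)).2.2 ↔ (Sep G).2.2) := by
  have q : ∀ v, v ⬝ᵥ (Aᵀ * G * A) *ᵥ v = (A *ᵥ v) ⬝ᵥ G *ᵥ (A *ᵥ v) := fun v => by
    rw [← Matrix.mulVec_mulVec, ← Matrix.mulVec_mulVec, Matrix.dotProduct_mulVec, Matrix.vecMul_transpose]
  have z : ∀ v, (Aᵀ * G * A) *ᵥ v = 0 ↔ G *ᵥ (A *ᵥ v) = 0 := fun v => by
    rw [← Matrix.mulVec_mulVec, ← Matrix.mulVec_mulVec]
    refine ⟨fun e => ?_, fun e => by rw [e, Matrix.mulVec_zero]⟩
    have := congrArg (A'ᵀ *ᵥ ·) e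
    simp only [Matrix.mulVec_zero, Matrix.mulVec_mulVec] at this
    rwa [← Matrix.mul_assoc, ← Matrix.transpose_mul, h, Matrix.transpose_one, Matrix.one_mul,
      ← Matrix.mulVec_mulVec] at this
  have s : ∀ v, A *ᵥ (A' *ᵥ v) = v := fun v => by rw [Matrix.mulVec_mulVec, h, Matrix.one_mulVec]
  refine ⟨⟨?_, ?_⟩, ⟨?_, ?_⟩, ⟨?_, ?_⟩⟩
  · rintro ⟨v, hv⟩; exact ⟨A *ᵥ v, (q v).symm.trans hv⟩
  · rintro ⟨v, hv⟩; exact ⟨A' *ᵥ v, by rw [q, s]; exact hv⟩
  · rintro ⟨v, hv⟩; exact ⟨A *ᵥ v, (q v).symm.trans hv⟩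
  · rintro ⟨v, hv⟩; exact ⟨A' *ᵥ v, by rw [q, s]; exact hv⟩
  · rintro ⟨v, hn, hv⟩; exact ⟨A *ᵥ v, fun e => hn ((z v).2 e), (q v).symm.trans hv⟩
  · rintro ⟨v, hn, hv⟩; exact ⟨A' *ᵥ v, fun e => hn (by rw [z, s] at e; exact e), by rw [q, s]; exact hv⟩

/-- The value of a binary diagonal form. -/
def bq (k : ℕ) (x : K × K) : K := (diagVal k).1 * x.1 * x.1 + (diagVal k).2 * x.2 * x.2

theorem sep_Dk (k : ℕ) :
    ((Sep (Dk k)).1 ↔ ∃ x, bq k x = 1) ∧ ((Sep (Dk k)).2.1 ↔ ∃ x, bq k x = 2) ∧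
      ((Sep (Dk k)).2.2 ↔ ∃ x : K × K, ((diagVal k).1 * x.1 ≠ 0 ∨ (diagVal k).2 * x.2 ≠ 0) ∧ bq k x = 0) := by
  have q : ∀ v, v ⬝ᵥ Dk k *ᵥ v = bq k (v (Sum.inl 0), v (Sum.inl 1)) := fun v => by
    simp [Dk, bq, dotProduct, Matrix.mulVec_diagonal, Fintype.sum_sum_type, Fin.sum_univ_four]
    ring
  have z : ∀ v, Dk k *ᵥ v ≠ 0 ↔ ((diagVal k).1 * v (Sum.inl 0) ≠ 0 ∨ (diagVal k).2 * v (Sum.inl 1) ≠ 0) := fun v => by
    constructor
    · intro h
      by_contra! hc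
      refine h (funext fun i => ?_)
      rw [Dk, Matrix.mulVec_diagonal]
      split_ifs with h0 h1
      · subst h0; simpa using hc.1
      · subst h1; simpa using hc.2
      · simp
    · intro h e
      have e0 := congrFun e (Sum.inl 0)
      have e1 := congrFun e (Sum.inl 1)
      simp [Dk, Matrix.mulVec_diagonal] at e0 e1
      rcases h with h | h
      · rcases e0 with e0 | e0 <;> simp [e0] at h
      · rcases e1 with e1 | e1 <;> simp [e1] at h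
  let mk2 : K × K → (Fin 4 ⊕ Fin 4 → K) := fun x i => if i = Sum.inl 0 then x.1 else if i = Sum.inl 1 then x.2 else 0
  have m0 : ∀ x, ((mk2 x) (Sum.inl 0), (mk2 x) (Sum.inl 1)) = x := fun x => by simp [mk2]
  refine ⟨⟨?_, ?_⟩, ⟨?_, ?_⟩, ⟨?_, ?_⟩⟩
  · rintro ⟨v, hv⟩; exact ⟨_, (q v).symm.trans hv⟩
  · rintro ⟨x, hx⟩; exact ⟨mk2 x, by rw [q, m0]; exact hx⟩
  · rintro ⟨v, hv⟩; exact ⟨_, (q v).symm.trans hv⟩
  · rintro ⟨x, hx⟩; exact ⟨mk2 x, by rw [q, m0]; exact hx⟩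
  · rintro ⟨v, hn, hv⟩; exact ⟨_, (z v).1 hn, (q v).symm.trans hv⟩
  · rintro ⟨x, hn, hx⟩
    refine ⟨mk2 x, (z _).2 ?_, by rw [q, m0]; exact hx⟩
    simpa [mk2] using hn

/-- The first predicate on a binary form. -/
def sb1 (k : ℕ) : Bool := decide (∃ x : K × K, bq k x = 1)

/-- The second predicate on a binary form. -/
def sb2 (k : ℕ) : Bool := decide (∃ x : K × K, bq k x = 2)

/-- The third predicate on a binary form. -/
def sb3 (k : ℕ) : Bool :=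
  decide (∃ x : K × K, ((diagVal k).1 * x.1 ≠ 0 ∨ (diagVal k).2 * x.2 ≠ 0) ∧ bq k x = 0)

theorem bq_separates : ∀ k < 5, ∀ l < 5, sb1 k = sb1 l → sb2 k = sb2 l → sb3 k = sb3 l → k = l := by
  decide +kernel

theorem cong_unique {W : Mat} {k l : ℕ} (hk : k < 5) (hl : l < 5) (h : Cong W k) (h' : Cong W l) : k = l := by
  obtain ⟨A, A', h1, h2, h3⟩ := h
  obtain ⟨B, B', g1, g2, g3⟩ := h'
  obtain ⟨a1, a2, a3⟩ := sep_congr (G := gForm W) h1
  obtain ⟨b1, b2, b3⟩ := sep_congr (G := gForm W) g1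
  obtain ⟨c1, c2, c3⟩ := sep_Dk k
  obtain ⟨d1, d2, d3⟩ := sep_Dk l
  rw [h3] at a1 a2 a3
  rw [g3] at b1 b2 b3
  exact bq_separates k hk l hl (decide_eq_decide.2 ((c1.symm.trans a1).trans (b1.symm.trans d1)))
    (decide_eq_decide.2 ((c2.symm.trans a2).trans (b2.symm.trans d2)))
    (decide_eq_decide.2 ((c3.symm.trans a3).trans (b3.symm.trans d3)))

/-- The invariant of an element of the orthogonal group. -/
def KInv (y : P) (k : ℕ) : Prop :=
  k < 5 ∧ ∃ s : Om, (QuotientGroup.mk s : P) = y ∧ mat s * mat s * mat s = 1 ∧ Cong (mat s) k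

theorem kinv_unique {y : P} {k l : ℕ} (h : KInv y k) (h' : KInv y l) : k = l := by
  obtain ⟨hk, s, hs, h3, hc⟩ := h
  obtain ⟨hl, t, ht, t3, hc'⟩ := h'
  rcases mat_of_mk_eq (hs.trans ht.symm) with e | e
  · exact cong_unique hk hl hc (by rw [← e]; exact hc')
  · exfalso
    rw [e, neg_mul_neg, mul_neg, h3] at t3
    have := congrFun (congrFun t3 (Sum.inl 0)) (Sum.inl 0)
    rw [Matrix.neg_apply, Matrix.one_apply_eq] at this
    exact absurd this (by decide)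

theorem mat_mul (a b : Om) : mat (a * b) = mat a * mat b := rfl

theorem mat_one : mat (1 : Om) = 1 := rfl

theorem isometry_gram (h : Om) : (mat h)ᵀ * Jm * mat h = Jm := by
  have hq : ∀ v : Fin 4 ⊕ Fin 4 → K, Cfsg.quadFormPlus 4 K (mat h *ᵥ v) = Cfsg.quadFormPlus 4 K v := fun v => by
    have hh := h.1.2 v v
    change Cfsg.quadFormPlus 4 K (mat h *ᵥ v) = Cfsg.quadFormPlus 4 K v at hh
    exact hh
  have pol : ∀ a b : Fin 4 ⊕ Fin 4 → K, a ⬝ᵥ Jm *ᵥ b =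
      Cfsg.quadFormPlus 4 K (a + b) - Cfsg.quadFormPlus 4 K a - Cfsg.quadFormPlus 4 K b := fun a b => by
    simp [Jm, dotProduct, Matrix.mulVec, Cfsg.quadFormPlus, Fintype.sum_sum_type, Fin.sum_univ_four]
    ring
  ext i j
  have e1 : ∀ M : Mat, M i j = Pi.single i 1 ⬝ᵥ M *ᵥ Pi.single j 1 := fun M => by simp
  rw [e1 ((mat h)ᵀ * Jm * mat h), e1 Jm, ← Matrix.mulVec_mulVec, ← Matrix.mulVec_mulVec, Matrix.dotProduct_mulVec,
    Matrix.vecMul_transpose, pol, pol, ← Matrix.mulVec_add, hq, hq, hq]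

theorem kinv_conj (y g : P) {k : ℕ} (h : KInv y k) : KInv (g * y * g⁻¹) k := by
  obtain ⟨hk, s, hs, h3, A, A', h1, h2, hc⟩ := h
  obtain ⟨u, rfl⟩ := QuotientGroup.mk_surjective g
  set H := mat u
  set H' := mat u⁻¹
  have hH : H * H' = 1 := by rw [← mat_mul, mul_inv_cancel, mat_one]
  have hH' : H' * H = 1 := by rw [← mat_mul, inv_mul_cancel, mat_one]
  have hJ : Hᵀ * Jm = Jm * H' := by
    rw [← mul_one (Hᵀ * Jm), ← hH, ← mul_assoc, isometry_gram]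
  refine ⟨hk, u * s * u⁻¹, by rw [← hs]; rfl, ?_, H * A, A' * H', ?_, ?_, ?_⟩
  · rw [mat_mul, mat_mul]
    calc (H * mat s * H') * (H * mat s * H') * (H * mat s * H')
        = H * mat s * (H' * H) * mat s * (H' * H) * mat s * H' := by simp only [mul_assoc]
      _ = 1 := by rw [hH', mul_one, mul_one, mul_assoc H, mul_assoc H, h3, mul_one, hH]
  · rw [mul_assoc, ← mul_assoc A, h1, one_mul, hH]
  · rw [mul_assoc, ← mul_assoc H', hH', one_mul, h2]
  · have e : mat (u * s * u⁻¹) - 1 = H * (mat s - 1) * H' := by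
      rw [mat_mul, mat_mul, mul_sub, mul_one, sub_mul, hH]
    have e2 : gForm (mat (u * s * u⁻¹)) = H'ᵀ * gForm (mat s) * H' := by
      rw [gForm, gForm, e, show H * (mat s - 1) * H' * (H * (mat s - 1) * H') =
        H * ((mat s - 1) * (mat s - 1)) * H' by
          calc _ = H * (mat s - 1) * (H' * H) * (mat s - 1) * H' := by simp only [mul_assoc]
            _ = _ := by rw [hH', mul_one]; simp only [mul_assoc]]
      rw [Matrix.transpose_mul, Matrix.transpose_mul, mul_assoc H'ᵀ, mul_assoc _ Hᵀ, hJ]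
      simp only [mul_assoc]
    rw [e2, Matrix.transpose_mul, ← hc]
    calc Aᵀ * Hᵀ * (H'ᵀ * gForm (mat s) * H') * (H * A)
        = Aᵀ * (Hᵀ * H'ᵀ) * gForm (mat s) * (H' * H) * A := by simp only [mul_assoc]
      _ = _ := by rw [← Matrix.transpose_mul, hH', Matrix.transpose_one, mul_one, mul_one]

/-- The certificates are right. -/
def chkCong : Bool :=
  congT.all fun c => Nat.blt c.2.1 5 && decide (dec c.2.2.1 * dec c.2.2.2.1 = 1) &&
    decide (dec c.2.2.2.1 * dec c.2.2.1 = 1) && decide (gForm (dec c.1) = dec c.2.2.2.2.1) &&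
    decide (dec c.2.2.2.2.1 * dec c.2.2.1 = dec c.2.2.2.2.2) &&
    decide ((dec c.2.2.1)ᵀ * dec c.2.2.2.2.2 = Dk c.2.1)

theorem congT_ok : chkCong = true := by decide +kernel

/-- A certified invariant. -/
def kOK (w : List ℕ) (k : ℕ) : Bool :=
  same (w ++ w ++ w) [] &&
    congT.any fun c => Nat.beq (evW w).1 c.1.1 && Nat.beq (evW w).2 c.1.2 && Nat.beq k c.2.1

theorem kinv_of_ok {w : List ℕ} {k : ℕ} (h : kOK w k = true) : KInv (pw w) k := by
  simp only [kOK, Bool.and_eq_true, List.any_eq_true] at h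
  obtain ⟨h3, c, hc, ⟨hc1, hc2⟩, hck⟩ := h
  have hm : evW w = c.1 := Prod.ext (Nat.eq_of_beq_eq_true hc1) (Nat.eq_of_beq_eq_true hc2)
  have := List.all_eq_true.1 congT_ok c hc
  simp only [Bool.and_eq_true, decide_eq_true_eq, Nat.blt_eq] at this
  obtain ⟨⟨⟨⟨⟨h5, hA⟩, hA'⟩, hG⟩, hGA⟩, hD⟩ := this
  obtain rfl := Nat.eq_of_beq_eq_true hck
  obtain ⟨s, hs, e⟩ := exists_lift w
  refine ⟨h5, s, e.symm, ?_, _, _, hA, hA', ?_⟩
  · simp only [same, Bool.and_eq_true] at h3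
    rw [hs, ← dec_evW_append, ← dec_evW_append,
      show evW (w ++ w ++ w) = pid8 from Prod.ext (Nat.eq_of_beq_eq_true h3.1) (Nat.eq_of_beq_eq_true h3.2), dec_pid8]
  · rw [hs, hm, hG, mul_assoc, hGA, hD]

end CfsgLib.Classical.O8Three
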