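import Cfsg.Agent.Lib.Classical.O8Three.Packed
import Cfsg.Agent.Lib.KnownB.Aut.D4Out
import Cfsg.Agent.Lib.KnownC.AutPOmega.D4Transport

/-!
Words in the root elements of `PΩ⁺(8, 3)` with their packed matrices, and the two graph automorphisms.
-/

set_option autoImplicit false
set_option maxRecDepth 100000

open Matrix QuadraticMap

namespace CfsgLib.Classical.O8Three

open CfsgLib.Orth CfsgLib.Classical CfsgLib.Chevalley CfsgLib.Chevalley.Natural
open CfsgLib.KnownB.Aut (xG NS Acts aut_ext)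
open CfsgLib.KnownB.Aut.D4Out
open CfsgLib.KnownC.AutPOmega (mk_eq_of_mat)

/-- The field. -/
abbrev K : Type := ZMod 3

/-- The Chevalley group. -/
abbrev Γ : Type := ↥(Data.D4.tbl.datum.group K)

/-- The orthogonal group. -/
abbrev P : Type := Cfsg.POmega K (Cfsg.quadFormPlus 4 K)

/-- The matrix group. -/
abbrev Om : Type := ↥(Cfsg.Omega K (Cfsg.quadFormPlus 4 K))

/-- The matrices. -/
abbrev Mat : Type := Matrix (Fin 4 ⊕ Fin 4) (Fin 4 ⊕ Fin 4) K

/-- The matrix of an element. -/
abbrev mat (s : Om) : Mat := ((s.1 : GL (Fin 4 ⊕ Fin 4) K) : Mat)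

/-- The root of a letter. -/
def lr (k : ℕ) : ℕ := k % 48 / 2

/-- The parameter of a letter. -/
def lt (k : ℕ) : ℕ := k % 2 + 1

/-- The column operations of the letters. -/
def opsT : List (List (List (ℕ × ℕ × Bool))) := [
  [[(4, 1, true), (5, 0, false)], [(4, 1, false), (5, 0, true)], [(4, 2, true), (6, 0, false)], [(4, 2, false), (6, 0, true)], [(3, 0, false), (4, 7, true)], [(3, 0, true), (4, 7, false)], [(4, 3, true), (7, 0, false)], [(4, 3, false), (7, 0, true)]],
  [[(2, 0, true), (4, 6, false)], [(2, 0, false), (4, 6, true)], [(1, 0, false), (4, 5, true)], [(1, 0, true), (4, 5, false)], [(5, 2, false), (6, 1, true)], [(5, 2, true), (6, 1, false)], [(3, 1, true), (5, 7, false)], [(3, 1, false), (5, 7, true)]],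
  [[(5, 3, false), (7, 1, true)], [(5, 3, true), (7, 1, false)], [(2, 1, false), (5, 6, true)], [(2, 1, true), (5, 6, false)], [(3, 2, false), (6, 7, true)], [(3, 2, true), (6, 7, false)], [(6, 3, true), (7, 2, false)], [(6, 3, false), (7, 2, true)]],
  [[(2, 7, false), (3, 6, true)], [(2, 7, true), (3, 6, false)], [(2, 3, false), (7, 6, true)], [(2, 3, true), (7, 6, false)], [(1, 2, false), (6, 5, true)], [(1, 2, true), (6, 5, false)], [(1, 7, true), (3, 5, false)], [(1, 7, false), (3, 5, true)]],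
  [[(1, 3, true), (7, 5, false)], [(1, 3, false), (7, 5, true)], [(1, 6, true), (2, 5, false)], [(1, 6, false), (2, 5, true)], [(0, 1, false), (5, 4, true)], [(0, 1, true), (5, 4, false)], [(0, 2, true), (6, 4, false)], [(0, 2, false), (6, 4, true)]],
  [[(0, 7, false), (3, 4, true)], [(0, 7, true), (3, 4, false)], [(0, 3, false), (7, 4, true)], [(0, 3, true), (7, 4, false)], [(0, 6, false), (2, 4, true)], [(0, 6, true), (2, 4, false)], [(0, 5, false), (1, 4, true)], [(0, 5, true), (1, 4, false)]]]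
def pid8 : PM := (9241421688590303745, 0)

/-- The column operations of a letter. -/
def ops (k : ℕ) : List (ℕ × ℕ × Bool) := (opsT.getD (k % 48 / 8) []).getD (k % 48 % 8) []

/-- Applying a letter. -/
def step (M : PM) (k : ℕ) : PM := (ops k).foldl colAdd M

/-- The packed matrix of a word. -/
def evW (w : List ℕ) : PM := w.foldl step pid8

theorem dec_pid8 : dec pid8 = 1 := by decide +kernel

theorem valid_pid8 : Valid pid8 := fun k _ => Nat.zero_testBit k

theorem ops_lt : ∀ k < 48, ∀ o ∈ ops k, o.1 < 8 ∧ o.2.1 < 8 := by decide +kernel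

theorem ops_mod (k : ℕ) : ops (k % 48) = ops k := by simp [ops]

theorem foldl_op : ∀ (l : List (ℕ × ℕ × Bool)) (M : PM), Valid M → (∀ o ∈ l, o.1 < 8 ∧ o.2.1 < 8) →
    Valid (l.foldl colAdd M) ∧ dec (l.foldl colAdd M) = dec M * (l.map opM).prod := by
  intro l
  induction l with
  | nil => intro M hM _; exact ⟨hM, by simp⟩
  | cons o l ih =>
    intro M hM h
    obtain ⟨h1, h2⟩ := h o (by simp)
    obtain ⟨v, e⟩ := ih (colAdd M o) (colAdd_valid M hM o) fun o' ho' => h o' (by simp [ho'])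
    refine ⟨v, ?_⟩
    rw [List.foldl_cons, e, dec_colAdd M hM o h1 h2, List.map_cons, List.prod_cons, mul_assoc]

/-- The matrix of a letter. -/
def lM (k : ℕ) : Mat := dec (step pid8 k)

theorem step_spec (M : PM) (hM : Valid M) (k : ℕ) : Valid (step M k) ∧ dec (step M k) = dec M * lM k := by
  have h : ∀ o ∈ ops k, o.1 < 8 ∧ o.2.1 < 8 := by
    rw [← ops_mod]; exact ops_lt _ (Nat.mod_lt _ (by norm_num))
  obtain ⟨v, e⟩ := foldl_op (ops k) M hM h
  refine ⟨v, e.trans ?_⟩
  show _ = dec M * dec ((ops k).foldl colAdd pid8)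
  rw [(foldl_op (ops k) pid8 valid_pid8 h).2, dec_pid8, one_mul]

theorem foldl_step : ∀ (w : List ℕ) (M : PM), Valid M →
    Valid (w.foldl step M) ∧ dec (w.foldl step M) = dec M * (w.map lM).prod := by
  intro w
  induction w with
  | nil => intro M hM; exact ⟨hM, by simp⟩
  | cons k w ih =>
    intro M hM
    obtain ⟨v, e⟩ := step_spec M hM k
    obtain ⟨v', e'⟩ := ih _ v
    refine ⟨v', ?_⟩
    rw [List.foldl_cons, e', e, List.map_cons, List.prod_cons, mul_assoc]

theorem evW_valid (w : List ℕ) : Valid (evW w) := (foldl_step w pid8 valid_pid8).1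

theorem dec_evW (w : List ℕ) : dec (evW w) = (w.map lM).prod := by
  rw [evW, (foldl_step w pid8 valid_pid8).2, dec_pid8, one_mul]

theorem dec_evW_append (w w' : List ℕ) : dec (evW (w ++ w')) = dec (evW w) * dec (evW w') := by
  simp [dec_evW]

theorem xM_fun (r : ℕ) (t : K) : xM eD4 r t = fun i j => xM eD4 r t i j := rfl

theorem lM_check : ∀ k : Fin 48, lM k.val = (xM eD4 (lr k.val) ((lt k.val : ℕ) : K) : Mat) := by
  decide +kernel

theorem lM_eq (k : ℕ) : lM k = xM eD4 (lr k) ((lt k : ℕ) : K) := by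
  have h := lM_check ⟨k % 48, Nat.mod_lt _ (by norm_num)⟩
  have e1 : lM (k % 48) = lM k := by unfold lM step; rw [ops_mod]
  have e2 : lr (k % 48) = lr k := by simp [lr]
  have e3 : lt (k % 48) = lt k := by unfold lt; omega
  rw [e1, e2, e3] at h
  exact h

theorem n_tbl : Data.D4.tbl.n = 24 := rfl

theorem lr_lt (k : ℕ) : lr k < Data.D4.tbl.n := by rw [n_tbl, lr]; omega

/-- The isomorphism with the Chevalley group. -/
noncomputable def E : Γ ≃* P := (pomega_D4_spec (F := K)).choose

theorem E_spec : ∀ r < Data.D4.tbl.n, ∀ (t : K) (g : Γ),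
    (g : GL Data.D4.tbl.I K) = Data.D4.tbl.xU K r t →
      ∃ s : Om, mat s = xM eD4 r t ∧ E g = QuotientGroup.mk s :=
  (pomega_D4_spec (F := K)).choose_spec

/-- The element of a letter. -/
noncomputable def letter (k : ℕ) : Γ := xG Data.D4.valid ⟨lr k, lr_lt k⟩ ((lt k : ℕ) : K)

/-- The element of a word. -/
noncomputable def pw (w : List ℕ) : P := E ((w.map letter).prod)

theorem pw_nil : pw [] = 1 := by simp [pw]

theorem pw_append (w w' : List ℕ) : pw (w ++ w') = pw w * pw w' := by simp [pw]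

theorem exists_lift (w : List ℕ) : ∃ s : Om, mat s = dec (evW w) ∧ pw w = QuotientGroup.mk s := by
  rw [dec_evW]
  induction w with
  | nil => exact ⟨1, by simp, by rw [pw_nil]; rfl⟩
  | cons k w ih =>
    obtain ⟨s, hs, e⟩ := ih
    obtain ⟨a, ha, ea⟩ := E_spec (lr k) (lr_lt k) _ (letter k) rfl
    refine ⟨a * s, ?_, ?_⟩
    · show mat a * mat s = _
      rw [ha, hs, List.map_cons, List.prod_cons, lM_eq]
    · rw [show k :: w = [k] ++ w from rfl, pw_append, e, show pw [k] = E (letter k) by simp [pw], ea]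
      rfl

theorem pw_eq_of_ev {w w' : List ℕ} (h : evW w = evW w') : pw w = pw w' := by
  obtain ⟨s, hs, e⟩ := exists_lift w
  obtain ⟨s', hs', e'⟩ := exists_lift w'
  rw [e, e']
  exact mk_eq_of_mat (by show mat s = mat s'; rw [hs, hs', h])

theorem center_scalar (z : Om) (hz : z ∈ Subgroup.center Om) : mat z = 1 ∨ mat z = -1 := by
  have h2 : (2 : K) ≠ 0 := by decide
  let e := omegaEquiv (plusForm K 4) (plusForm_apply 4) (Qf := Cfsg.quadFormPlus 4 K)
  have hc : e z ∈ Subgroup.center _ := (Subgroup.centerCongr e ⟨z, hz⟩).2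
  have key := eq_one_or_negEl_of_commute (plusForm_nondeg (F := K) 4) h2 (hypPairs_plus 4 (by norm_num)) (e z).1
    (central_commutes (e z) hc)
  have col : ∀ v : Fin 4 ⊕ Fin 4 → K, mat z *ᵥ v = (e z).1.1 v := fun v => rfl
  rcases key with h | h
  · refine Or.inl (Matrix.ext fun i j => ?_)
    have := congrFun (col (Pi.single j 1)) i
    rw [h, Matrix.mulVec_single_one] at this
    rw [show mat z i j = _ from this]
    simp [Matrix.one_apply, Pi.single_apply]
  · refine Or.inr (Matrix.ext fun i j => ?_)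
    have := congrFun (col (Pi.single j 1)) i
    rw [h, Matrix.mulVec_single_one] at this
    rw [show mat z i j = _ from this]
    simp [negEl, Matrix.one_apply, Pi.single_apply]

theorem mat_of_mk_eq {s t : Om} (h : (QuotientGroup.mk s : P) = QuotientGroup.mk t) :
    mat t = mat s ∨ mat t = -mat s := by
  have hz := center_scalar (s⁻¹ * t) (QuotientGroup.eq.1 h)
  have e : mat t = mat s * mat (s⁻¹ * t) := by
    show mat t = mat s * (mat s⁻¹ * mat t)
    rw [← mul_assoc]
    have : mat s * mat s⁻¹ = 1 := by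
      show ((s.1 : GL (Fin 4 ⊕ Fin 4) K) : Mat) * ((((s⁻¹ : Om)).1 : GL (Fin 4 ⊕ Fin 4) K) : Mat) = 1
      rw [← Units.val_mul]
      norm_cast
      simp
    rw [this, one_mul]
  rcases hz with h1 | h1
  · exact Or.inl (by rw [e, h1, mul_one])
  · exact Or.inr (by rw [e, h1, mul_neg, mul_one])

theorem dec_of_pw_one {w : List ℕ} (h : pw w = 1) : dec (evW w) = 1 ∨ dec (evW w) = -1 := by
  obtain ⟨s, hs, e⟩ := exists_lift w
  rw [← hs]
  exact mat_of_mk_eq (s := 1) (by rw [← e, h]; rfl) |>.imp (fun h => h.trans rfl) (fun h => h.trans rfl)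

/-- The image of a word under a root map. -/
def gmapW (M : Tbl.RootMap) (w : List ℕ) : List ℕ :=
  w.map fun k => 2 * M.ρ (lr k) + (bif decide (M.ε (lr k) = 1) then lt k - 1 else 2 - lt k)

theorem exists_graph_aut {M N : Tbl.RootMap} (hM : Data.D4.tbl.chkMap 0 M = true)
    (hN : Data.D4.tbl.chkMap 0 N = true) (hinv : Data.D4.tbl.chkInvMap 0 M N = true) :
    ∃ α : MulAut Γ, ∀ (r : Fin Data.D4.tbl.n) (t : K),
      α (xG Data.D4.valid r t) = xG Data.D4.valid ⟨M.ρ r.val, (Tbl.chkMap_facts hM r.2).1⟩ (M.par r t) := by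
  obtain ⟨α, hα⟩ := Tbl.exists_rootMap_aut ⟨Data.D4.valid, Data.D4.chkComm, Data.D4.chkSorted, Data.D4.chkSplit⟩
    (F := K) (p := 0) (Or.inl rfl) hM hN hinv fun x => ⟨0, Or.inr rfl⟩
  exact ⟨α, fun r t => Subtype.ext (hα _ r t r.2 rfl)⟩

theorem map_letter {M : Tbl.RootMap} (hM : Data.D4.tbl.chkMap 0 M = true) {α : MulAut Γ}
    (hα : ∀ (r : Fin Data.D4.tbl.n) (t : K),
      α (xG Data.D4.valid r t) = xG Data.D4.valid ⟨M.ρ r.val, (Tbl.chkMap_facts hM r.2).1⟩ (M.par r t))
    (w : List ℕ) : α (w.map letter).prod = ((gmapW M w).map letter).prod := by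
  induction w with
  | nil => simp [gmapW]
  | cons k w ih =>
    rw [List.map_cons, List.prod_cons, map_mul, ih]
    show _ = (List.map letter (gmapW M (k :: w))).prod
    rw [show gmapW M (k :: w) = _ :: gmapW M w from rfl, List.map_cons, List.prod_cons]
    congr 1
    rw [letter, hα]
    obtain ⟨hlt, -, heps, -, -, hlam, -⟩ := Tbl.chkMap_facts hM (lr_lt k)
    have hl : M.lam (lr k) = 1 := by
      rcases hlam with h | ⟨-, h⟩
      · exact h
      · exact absurd h (by norm_num)
    have hp : Tbl.RootMap.par (F := K) M (lr k) ((lt k : ℕ) : K) = (M.ε (lr k) : K) * ((lt k : ℕ) : K) := by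
      rw [Tbl.RootMap.par, hl, pow_one]
    show xG Data.D4.valid _ (Tbl.RootMap.par (F := K) M (lr k) ((lt k : ℕ) : K)) = _
    rw [hp]
    rw [n_tbl] at hlt
    have hb : lt k = 1 ∨ lt k = 2 := by unfold lt; omega
    have hlr : ∀ R j, R < 24 → j < 2 → lr (2 * R + j) = R ∧ lt (2 * R + j) = j + 1 := fun R j hR hj => by
      unfold lr lt; omega
    rcases heps with h1 | h1
    · obtain ⟨e1, e2⟩ := hlr _ (lt k - 1) hlt (by omega)
      simp only [h1, decide_true, cond_true, letter]
      congr 1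
      · exact Fin.ext e1.symm
      · rw [e2]; rcases hb with hb | hb <;> rw [hb] <;> decide
    · obtain ⟨e1, e2⟩ := hlr _ (2 - lt k) hlt (by omega)
      simp only [h1, show decide ((-1 : ℤ) = 1) = false from rfl, cond_false, letter]
      congr 1
      · exact Fin.ext e1.symm
      · rw [e2]; rcases hb with hb | hb <;> rw [hb] <;> decide

/-- An automorphism moved to the orthogonal group. -/
noncomputable def autP (α : MulAut Γ) : P ≃* P := (E.symm.trans α).trans E

theorem autP_app (α : MulAut Γ) (x : Γ) : autP α (E x) = E (α x) := by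
  rw [autP, MulEquiv.trans_apply, MulEquiv.trans_apply, E.symm_apply_apply]

theorem congr_pw {M : Tbl.RootMap} (hM : Data.D4.tbl.chkMap 0 M = true) {α : MulAut Γ}
    (hα : ∀ (r : Fin Data.D4.tbl.n) (t : K),
      α (xG Data.D4.valid r t) = xG Data.D4.valid ⟨M.ρ r.val, (Tbl.chkMap_facts hM r.2).1⟩ (M.par r t))
    (w : List ℕ) : autP α (pw w) = pw (gmapW M w) := by
  rw [pw, autP_app, map_letter hM hα]
  rfl

set_option maxHeartbeats 1000000 in
theorem acts_of_graph {M : Tbl.RootMap} (hM : Data.D4.tbl.chkMap 0 M = true) {α : MulAut Γ}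
    (hα : ∀ (r : Fin Data.D4.tbl.n) (t : K),
      α (xG Data.D4.valid r t) = xG Data.D4.valid ⟨M.ρ r.val, (Tbl.chkMap_facts hM r.2).1⟩ (M.par r t))
    {g : MulAut Γ} {π : Equiv.Perm Node} (hg : Acts CfsgLib.KnownB.Aut.diagD4 3 Data.D4.valid g π 1 1)
    (hπ : ∀ i : Node, M.ρ (Data.D4.tbl.simple i.val) = Data.D4.tbl.simple (π i).val ∧
      M.ε (Data.D4.tbl.simple i.val) = 1 ∧ M.lam (Data.D4.tbl.simple i.val) = 1) : α = g := by
  refine aut_ext Data.D4.valid fun i t => ?_
  obtain ⟨h1, h2, h3⟩ := hπ i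
  rw [(hg i t).1, (hg i t).2, hα, hα]
  obtain ⟨-, hn, -, hne, hnl, -, -⟩ := Tbl.chkMap_facts hM (Tbl.simple_lt Data.D4.valid i.2)
  refine ⟨?_, ?_⟩
  · congr 1
    · exact Fin.ext h1
    · rw [Tbl.RootMap.par, show (Data.D4.tbl.simpF Data.D4.valid i).val = Data.D4.tbl.simple i.val from rfl, h2, h3]
      simp [e_one]
  · congr 1
    · exact Fin.ext (hn.trans (by rw [h1]; rfl))
    · rw [Tbl.RootMap.par, show (Data.D4.tbl.negF (Data.D4.tbl.simpF Data.D4.valid i)).val =
        Data.D4.tbl.neg (Data.D4.tbl.simple i.val) from rfl, hne, hnl, h2, h3]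
      simp [e_one]

end CfsgLib.Classical.O8Three
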