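import Cfsg.Agent.Lib.Classical.O8Three.Invariant

/-!
The thirteen classes of subgroups of order three of `PΩ⁺(8, 3)` and their seven orbits under a group of graph
automorphisms.
-/

set_option autoImplicit false
set_option maxRecDepth 100000
set_option maxHeartbeats 1000000
set_option Elab.async false

open Matrix

namespace CfsgLib.Classical.O8Three

open CfsgLib.Chevalley
open CfsgLib.KnownB.Aut (xG NS)
open CfsgLib.KnownB.Aut.D4Out

/-- Triality on the Chevalley group. -/
noncomputable def alpha : MulAut Γ :=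
  (exists_graph_aut Data.D4.chk_graph Data.D4.chk_graph2 Data.D4.chk_graph_inv).choose

theorem alpha_spec : ∀ (r : Fin Data.D4.tbl.n) (t : K), alpha (xG Data.D4.valid r t) =
    xG Data.D4.valid ⟨Data.D4.graph.ρ r.val, (Tbl.chkMap_facts Data.D4.chk_graph r.2).1⟩
      (Data.D4.graph.par r t) :=
  (exists_graph_aut Data.D4.chk_graph Data.D4.chk_graph2 Data.D4.chk_graph_inv).choose_spec

/-- The exchange of two nodes on the Chevalley group. -/
noncomputable def beta : MulAut Γ :=
  (exists_graph_aut CfsgLib.KnownB.Aut.chk_flipD4 CfsgLib.KnownB.Aut.chk_flipD4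
    CfsgLib.KnownB.Aut.chk_flipD4_inv).choose

theorem beta_spec : ∀ (r : Fin Data.D4.tbl.n) (t : K), beta (xG Data.D4.valid r t) =
    xG Data.D4.valid ⟨CfsgLib.KnownB.Aut.flipD4.ρ r.val,
      (Tbl.chkMap_facts CfsgLib.KnownB.Aut.chk_flipD4 r.2).1⟩ (CfsgLib.KnownB.Aut.flipD4.par r t) :=
  (exists_graph_aut CfsgLib.KnownB.Aut.chk_flipD4 CfsgLib.KnownB.Aut.chk_flipD4
    CfsgLib.KnownB.Aut.chk_flipD4_inv).choose_spec

/-- Triality. -/
noncomputable def autA : P ≃* P := autP alpha

/-- The exchange. -/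
noncomputable def autB : P ≃* P := autP beta

/-- Words under triality. -/
def gA (w : List ℕ) : List ℕ := gmapW Data.D4.graph w

/-- Words under the exchange. -/
def gB (w : List ℕ) : List ℕ := gmapW CfsgLib.KnownB.Aut.flipD4 w

theorem autA_pw (w : List ℕ) : autA (pw w) = pw (gA w) := congr_pw Data.D4.chk_graph alpha_spec w

theorem autB_pw (w : List ℕ) : autB (pw w) = pw (gB w) :=
  congr_pw CfsgLib.KnownB.Aut.chk_flipD4 beta_spec w

/-- The invariant of an element: the forms of it and of its images under triality. -/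
def Trip (y : P) (t : ℕ × ℕ × ℕ) : Prop :=
  KInv y t.1 ∧ KInv (autA y) t.2.1 ∧ KInv (autA (autA y)) t.2.2

/-- A certified invariant. -/
def tripOK (w : List ℕ) (t : ℕ × ℕ × ℕ) : Bool := kOK w t.1 && kOK (gA w) t.2.1 && kOK (gA (gA w)) t.2.2

theorem trip_of_ok {w : List ℕ} {t : ℕ × ℕ × ℕ} (h : tripOK w t = true) : Trip (pw w) t := by
  simp only [tripOK, Bool.and_eq_true] at h
  refine ⟨kinv_of_ok h.1.1, ?_, ?_⟩
  · rw [autA_pw]; exact kinv_of_ok h.1.2
  · rw [autA_pw, autA_pw]; exact kinv_of_ok h.2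

theorem trip_unique {y : P} {t t' : ℕ × ℕ × ℕ} (h : Trip y t) (h' : Trip y t') : t = t' :=
  Prod.ext (kinv_unique h.1 h'.1) (Prod.ext (kinv_unique h.2.1 h'.2.1) (kinv_unique h.2.2 h'.2.2))

theorem trip_conj {x y : P} (hc : IsConj x y) {t : ℕ × ℕ × ℕ} (h : Trip x t) : Trip y t := by
  obtain ⟨g, rfl⟩ := isConj_iff.1 hc
  refine ⟨kinv_conj _ _ h.1, ?_, ?_⟩
  · rw [map_mul, map_mul, map_inv]; exact kinv_conj _ _ h.2.1
  · rw [map_mul, map_mul, map_inv, map_mul, map_mul, map_inv]; exact kinv_conj _ _ h.2.2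

/-- The invariant of a representative. -/
def trT (j : ℕ) : ℕ × ℕ × ℕ := repT.getD j (0, 0, 0)

/-- The word of an inverse. -/
def invW (w : List ℕ) : List ℕ := w.reverse.map fun k => bif Nat.beq (k % 2) 0 then k + 1 else k - 1

/-- A word has a matrix that is not scalar. -/
def nonScalar (w : List ℕ) : Bool :=
  (List.range 64).any fun b =>
    !(Nat.beq (b / 8) (b % 8)) && (Nat.testBit (evW w).1 b || Nat.testBit (evW w).2 b)

/-- The facts about the representatives. -/
def chkReps : Bool :=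
  (List.range 13).all fun j =>
    let r := repW.getD j []
    tripOK r (trT j) && tripOK (invW r) (trT j) && same (invW r ++ r) [] && nonScalar r &&
      tripOK (gA r) (trT (sigA.getD j 0)) && tripOK (gB r) (trT (sigB.getD j 0)) &&
      Nat.blt (sigA.getD j 0) 13 && Nat.blt (sigB.getD j 0) 13 &&
      Nat.beq (labT.getD (sigA.getD j 0) 0) (labT.getD j 0) && Nat.beq (labT.getD (sigB.getD j 0) 0) (labT.getD j 0) &&
      Nat.blt (labT.getD j 0) 7 &&
      (let o := orbR.getD (labT.getD j 0) 0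
       Nat.beq j o || Nat.beq j (sigA.getD o 0) || Nat.beq j (sigA.getD (sigA.getD o 0) 0))

theorem reps_ok : chkReps = true := by decide +kernel

theorem trT_inj : ∀ i < 13, ∀ j < 13, trT i = trT j → i = j := by decide +kernel

theorem orbR_lt : ∀ m < 7, orbR.getD m 0 < 13 ∧ labT.getD (orbR.getD m 0) 0 = m := by decide +kernel

theorem rep_facts {j : ℕ} (hj : j < 13) :
    Trip (rep j) (trT j) ∧ Trip (rep j)⁻¹ (trT j) ∧ orderOf (rep j) = 3 ∧
      Trip (autA (rep j)) (trT (sigA.getD j 0)) ∧ Trip (autB (rep j)) (trT (sigB.getD j 0)) ∧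
      sigA.getD j 0 < 13 ∧ sigB.getD j 0 < 13 ∧ labT.getD (sigA.getD j 0) 0 = labT.getD j 0 ∧
      labT.getD (sigB.getD j 0) 0 = labT.getD j 0 ∧ labT.getD j 0 < 7 ∧
      (j = orbR.getD (labT.getD j 0) 0 ∨ j = sigA.getD (orbR.getD (labT.getD j 0) 0) 0 ∨
        j = sigA.getD (sigA.getD (orbR.getD (labT.getD j 0) 0) 0) 0) := by
  have h := List.all_eq_true.1 reps_ok j (List.mem_range.2 hj)
  simp only [Bool.and_eq_true, Nat.blt_eq, Bool.or_eq_true] at h
  obtain ⟨⟨⟨⟨⟨⟨⟨⟨⟨⟨⟨h1, h2⟩, h3⟩, h4⟩, h5⟩, h6⟩, h7⟩, h8⟩, h9⟩, h10⟩, h11⟩, h12⟩ := h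
  refine ⟨trip_of_ok h1, ?_, ?_, ?_, ?_, h7, h8, Nat.eq_of_beq_eq_true h9, Nat.eq_of_beq_eq_true h10, h11, ?_⟩
  · have e := pw_of_same h3
    rw [pw_append, pw_nil] at e
    rw [show (rep j)⁻¹ = pw (invW (repW.getD j [])) from (eq_inv_of_mul_eq_one_left e).symm]
    exact trip_of_ok h2
  · have hk : same (repW.getD j [] ++ repW.getD j [] ++ repW.getD j []) [] = true := by
      simp only [tripOK, kOK, Bool.and_eq_true] at h1
      exact h1.1.1.1
    refine orderOf_eq_prime ?_ ?_
    · have e := pw_of_same hk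
      rw [pw_append, pw_append, pw_nil] at e
      rw [pow_three, ← mul_assoc]
      exact e
    · intro e
      simp only [nonScalar, List.any_eq_true, List.mem_range, Bool.and_eq_true, Bool.or_eq_true,
        Bool.not_eq_true'] at h4
      obtain ⟨b, hb, hne, hbit⟩ := h4
      have hne' : b / 8 ≠ b % 8 := fun h => by rw [h] at hne; simp at hne
      have hu : unpos (b % 8) ≠ unpos (b / 8) := fun h => hne' (by
        have := congrArg pos h
        rw [pos_unpos (by omega), pos_unpos (by omega)] at this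
        exact this.symm)
      have hpi : bitAt (unpos (b % 8)) (unpos (b / 8)) = b := by
        rw [bitAt, pos_unpos (by omega), pos_unpos (by omega)]; omega
      have hv : dec (evW (repW.getD j [])) (unpos (b % 8)) (unpos (b / 8)) ≠ 0 := by
        show val3 _ _ ≠ 0
        rw [hpi]
        rcases hbit with hbit | hbit <;> rw [hbit]
        · simp [val3]
        · cases (evW (repW.getD j [])).1.testBit b <;> simp [val3]; decide
      rcases dec_of_pw_one e with h' | h' <;> rw [h'] at hv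
      · exact hv (Matrix.one_apply_ne hu)
      · exact hv (by rw [Matrix.neg_apply, Matrix.one_apply_ne hu, neg_zero])
  · rw [rep, autA_pw]; exact trip_of_ok h5
  · rw [rep, autB_pw]; exact trip_of_ok h6
  · rcases h12 with (h | h) | h
    · exact Or.inl (Nat.eq_of_beq_eq_true h)
    · exact Or.inr (Or.inl (Nat.eq_of_beq_eq_true h))
    · exact Or.inr (Or.inr (Nat.eq_of_beq_eq_true h))

theorem conj_rep_of_trip {y : P} (hy : orderOf y = 3) {j : ℕ} (hj : j < 13) (h : Trip y (trT j)) :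
    IsConj y (rep j) := by
  obtain ⟨i, hi, hc⟩ := exists_rep hy
  obtain rfl := trT_inj i hi j hj (trip_unique (rep_facts hi).1 (trip_conj hc h))
  exact hc

theorem pow_three_of_order {x : P} (h : orderOf x = 3) : x ^ 3 = 1 := by
  have e := pow_orderOf_eq_one x
  rwa [h] at e

/-- The subgroup of a representative. -/
noncomputable def Yr (j : ℕ) : Subgroup P := Subgroup.zpowers (rep j)

theorem card_Yr {j : ℕ} (hj : j < 13) : Nat.card (Yr j) = 3 := by
  rw [Yr, Nat.card_zpowers]; exact (rep_facts hj).2.2.1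

/-- A subgroup is conjugate to a representative. -/
def CL (X : Subgroup P) (j : ℕ) : Prop := j < 13 ∧ ∃ g : P, X.map (MulAut.conj g).toMonoidHom = Yr j

theorem map_zpowers_conj (g x : P) :
    (Subgroup.zpowers x).map (MulAut.conj g).toMonoidHom = Subgroup.zpowers (g * x * g⁻¹) := by
  rw [MonoidHom.map_zpowers]; rfl

theorem cl_zpowers {y : P} {j : ℕ} (hj : j < 13) (h : IsConj y (rep j)) : CL (Subgroup.zpowers y) j := by
  obtain ⟨g, hg⟩ := isConj_iff.1 h
  exact ⟨hj, g, by rw [map_zpowers_conj, hg]; rfl⟩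

theorem cl_exists {X : Subgroup P} (hX : Nat.card X = 3) : ∃ j, CL X j := by
  haveI : Fact (Nat.Prime 3) := ⟨Nat.prime_three⟩
  haveI : Finite X := Nat.finite_of_card_ne_zero (by rw [hX]; norm_num)
  obtain ⟨x, hx⟩ := exists_prime_orderOf_dvd_card' (G := X) 3 (by rw [hX])
  have hx' : orderOf (x : P) = 3 := by rw [Subgroup.orderOf_coe]; exact hx
  have hXx : X = Subgroup.zpowers (x : P) := by
    refine (Subgroup.eq_of_le_of_card_ge (by rw [Subgroup.zpowers_le]; exact x.2) ?_).symm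
    rw [Nat.card_zpowers, hx', hX]
  obtain ⟨j, hj, hc⟩ := exists_rep hx'
  exact ⟨j, hXx ▸ cl_zpowers hj hc⟩

theorem cl_unique {X : Subgroup P} {i j : ℕ} (h : CL X i) (h' : CL X j) : i = j := by
  obtain ⟨hi, g, hg⟩ := h
  obtain ⟨hj, g', hg'⟩ := h'
  obtain ⟨-, -, hoi, -⟩ := rep_facts hi
  obtain ⟨htj, htj', hoj, -⟩ := rep_facts hj
  set c := g' * g⁻¹ with hcdef
  have hmap : (Yr i).map (MulAut.conj c).toMonoidHom = Yr j := by
    rw [← hg, ← hg', Subgroup.map_map]
    congr 1
    ext x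
    simp [hcdef, mul_assoc]
  have hmem : c * rep i * c⁻¹ ∈ Yr j := by
    rw [← hmap, Yr, map_zpowers_conj]
    exact Subgroup.mem_zpowers _
  have hy : orderOf (c * rep i * c⁻¹) = 3 := by
    refine orderOf_eq_prime ?_ fun e => ?_
    · rw [conj_pow, pow_three_of_order hoi, mul_one, mul_inv_cancel]
    · rw [conj_eq_one_iff.1 e, orderOf_one] at hoi; norm_num at hoi
  have h3 : rep j ^ 3 = 1 := pow_three_of_order hoj
  classical
  rw [Yr, mem_zpowers_iff_mem_range_orderOf, hoj] at hmem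
  simp only [Finset.mem_image, Finset.mem_range] at hmem
  obtain ⟨a, ha, e⟩ := hmem
  have hti : Trip (c * rep i * c⁻¹) (trT i) := trip_conj (isConj_iff.2 ⟨c, rfl⟩) (rep_facts hi).1
  have : Trip (c * rep i * c⁻¹) (trT j) := by
    rw [← e]
    interval_cases a
    · rw [pow_zero] at e
      rw [← e, orderOf_one] at hy
      norm_num at hy
    · rw [pow_one]; exact htj
    · rw [show rep j ^ 2 = (rep j)⁻¹ from (inv_eq_of_mul_eq_one_right (by rw [← pow_succ']; exact h3)).symm]
      exact htj'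
  exact trT_inj i hi j hj (trip_unique hti this)

/-- The automorphism moves orbits to themselves. -/
def Keeps (θ : P ≃* P) : Prop :=
  ∀ X i j, CL X i → CL (X.map θ.toMonoidHom) j → labT.getD i 0 = labT.getD j 0

theorem cl_map_of_rep (θ : P ≃* P) {X : Subgroup P} {i j : ℕ} (h : CL X i) (hj : j < 13)
    (hθ : IsConj (θ (rep i)) (rep j)) : CL (X.map θ.toMonoidHom) j := by
  obtain ⟨hi, g, hg⟩ := h
  obtain ⟨d, hd⟩ := isConj_iff.1 hθ
  refine ⟨hj, d * θ g, ?_⟩
  have e : (X.map θ.toMonoidHom).map (MulAut.conj (d * θ g)).toMonoidHom =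
      ((X.map (MulAut.conj g).toMonoidHom).map θ.toMonoidHom).map (MulAut.conj d).toMonoidHom := by
    rw [Subgroup.map_map, Subgroup.map_map, Subgroup.map_map]
    congr 1
    ext x
    simp [mul_assoc]
  rw [e, hg, Yr, MonoidHom.map_zpowers, map_zpowers_conj]
  show Subgroup.zpowers (d * θ (rep i) * d⁻¹) = Yr j
  rw [hd]
  rfl

theorem order_map (θ : P ≃* P) {x : P} (hx : orderOf x = 3) : orderOf (θ x) = 3 := by
  refine orderOf_eq_prime ?_ fun e => ?_
  · rw [← map_pow, pow_three_of_order hx, map_one]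
  · rw [θ.map_eq_one_iff.1 e, orderOf_one] at hx; norm_num at hx

theorem cl_autA {X : Subgroup P} {i : ℕ} (h : CL X i) : CL (X.map autA.toMonoidHom) (sigA.getD i 0) :=
  cl_map_of_rep autA h (rep_facts h.1).2.2.2.2.2.1
    (conj_rep_of_trip (order_map _ (rep_facts h.1).2.2.1) (rep_facts h.1).2.2.2.2.2.1 (rep_facts h.1).2.2.2.1)

theorem cl_autB {X : Subgroup P} {i : ℕ} (h : CL X i) : CL (X.map autB.toMonoidHom) (sigB.getD i 0) :=
  cl_map_of_rep autB h (rep_facts h.1).2.2.2.2.2.2.1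
    (conj_rep_of_trip (order_map _ (rep_facts h.1).2.2.1) (rep_facts h.1).2.2.2.2.2.2.1 (rep_facts h.1).2.2.2.2.1)

theorem keeps_autA : Keeps autA := fun _ i _ h h' => by
  rw [← cl_unique (cl_autA h) h']
  exact (rep_facts h.1).2.2.2.2.2.2.2.1.symm

theorem keeps_autB : Keeps autB := fun _ i _ h h' => by
  rw [← cl_unique (cl_autB h) h']
  exact (rep_facts h.1).2.2.2.2.2.2.2.2.1.symm

theorem keeps_conj (g : P) : Keeps (MulAut.conj g) := fun X i j h h' => by
  obtain ⟨hi, c, hc⟩ := h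
  rw [cl_unique h' (show CL (X.map (MulAut.conj g).toMonoidHom) i from ⟨hi, c * g⁻¹, by
    rw [← hc, Subgroup.map_map]
    congr 1
    ext x
    simp [mul_assoc]⟩)]

/-- The group of automorphisms generated by the inner ones and the two graph automorphisms. -/
noncomputable def H0 : Subgroup (MulAut P) := Cfsg.Inn P ⊔ Subgroup.closure {autA, autB}

theorem card_map_aut (θ : MulAut P) {X : Subgroup P} (hX : Nat.card X = 3) :
    Nat.card (X.map θ.toMonoidHom) = 3 := by
  exact (Nat.card_congr (θ.subgroupMap X).toEquiv).symm.trans hX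

theorem cl_card {X : Subgroup P} {j : ℕ} (h : CL X j) : Nat.card X = 3 := by
  obtain ⟨hj, g, hg⟩ := h
  have e := Nat.card_congr ((MulAut.conj g).subgroupMap X).toEquiv
  exact e.trans ((congrArg (fun S : Subgroup P => Nat.card S) hg).trans (card_Yr hj))

/-- The automorphisms keeping the orbits. -/
noncomputable def keeper : Subgroup (MulAut P) where
  carrier := {θ | Keeps θ}
  one_mem' := fun X i j h h' => by
    have e : X.map (1 : MulAut P).toMonoidHom = X := Subgroup.map_id X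
    rw [e] at h'
    rw [cl_unique h h']
  mul_mem' := fun {a b} ha hb X i j h h' => by
    obtain ⟨k, hk⟩ := cl_exists (card_map_aut b (cl_card h))
    have e : X.map (a * b).toMonoidHom = (X.map b.toMonoidHom).map a.toMonoidHom := by
      rw [Subgroup.map_map]; rfl
    rw [e] at h'
    exact (hb X i k h hk).trans (ha _ k j hk h')
  inv_mem' := fun {a} ha X i j h h' => by
    have e : (X.map a⁻¹.toMonoidHom).map a.toMonoidHom = X := by
      rw [Subgroup.map_map]
      convert Subgroup.map_id X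
      ext x
      exact MulEquiv.apply_symm_apply a x
    exact (ha _ j i h' (e.symm ▸ h)).symm

theorem H0_le_keeper : H0 ≤ keeper := by
  refine sup_le ?_ ((Subgroup.closure_le _).2 ?_)
  · rintro _ ⟨g, rfl⟩
    exact keeps_conj g
  · rintro θ (rfl | rfl)
    exacts [keeps_autA, keeps_autB]

theorem reach {j : ℕ} (hj : j < 13) :
    ∃ θ ∈ H0, CL ((Yr (orbR.getD (labT.getD j 0) 0)).map θ.toMonoidHom) j := by
  obtain ⟨-, -, -, -, -, -, -, -, -, hl, hr⟩ := rep_facts hj
  set r := orbR.getD (labT.getD j 0) 0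
  have hr13 : r < 13 := (orbR_lt _ hl).1
  have h0 : CL (Yr r) r := ⟨hr13, 1, by rw [map_one]; exact Subgroup.map_id _⟩
  have hA : (autA : MulAut P) ∈ H0 := Subgroup.mem_sup_right (Subgroup.subset_closure (Or.inl rfl))
  rcases hr with h | h | h
  · refine ⟨1, one_mem _, ?_⟩
    rw [show (Yr r).map (1 : MulAut P).toMonoidHom = Yr r from Subgroup.map_id _, h]
    exact h0
  · exact ⟨autA, hA, h ▸ cl_autA h0⟩
  · refine ⟨(autA : MulAut P) * autA, mul_mem hA hA, ?_⟩
    rw [show (Yr r).map ((autA : MulAut P) * autA).toMonoidHom = ((Yr r).map autA.toMonoidHom).map autA.toMonoidHom by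
      rw [Subgroup.map_map]; rfl, h]
    exact cl_autA (cl_autA h0)

/-- Representatives of the seven orbits. -/
noncomputable def Yo (m : Fin 7) : Subgroup P := Yr (orbR.getD m.val 0)

theorem orbit_inj {θ : MulAut P} (hθ : θ ∈ H0) {m n : Fin 7} (h : (Yo m).map θ.toMonoidHom = Yo n) : m = n := by
  obtain ⟨hm, em⟩ := orbR_lt m.val m.2
  obtain ⟨hn, en⟩ := orbR_lt n.val n.2
  have hk := H0_le_keeper hθ (Yo m) (orbR.getD m.val 0) (orbR.getD n.val 0)
    ⟨hm, 1, by rw [map_one]; exact Subgroup.map_id _⟩ ⟨hn, 1, by rw [map_one, h]; exact Subgroup.map_id _⟩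
  rw [em, en] at hk
  exact Fin.ext hk

theorem orbit_surj {X : Subgroup P} (hX : Nat.card X = 3) :
    ∃ m : Fin 7, ∃ θ ∈ H0, X.map θ.toMonoidHom = Yo m := by
  obtain ⟨j, hj⟩ := cl_exists hX
  obtain ⟨θ, hθ, -, d, hd⟩ := reach hj.1
  obtain ⟨hj13, g, hg⟩ := hj
  refine ⟨⟨labT.getD j 0, (rep_facts hj13).2.2.2.2.2.2.2.2.2.1⟩,
    θ⁻¹ * MulAut.conj d⁻¹ * MulAut.conj g, ?_, ?_⟩
  · exact mul_mem (mul_mem (inv_mem hθ) (Subgroup.mem_sup_left ⟨_, rfl⟩)) (Subgroup.mem_sup_left ⟨_, rfl⟩)
  · have e : X.map (θ⁻¹ * MulAut.conj d⁻¹ * MulAut.conj g).toMonoidHom =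
        ((X.map (MulAut.conj g).toMonoidHom).map (MulAut.conj d⁻¹).toMonoidHom).map θ⁻¹.toMonoidHom := by
      rw [Subgroup.map_map, Subgroup.map_map]; rfl
    rw [e, hg, ← hd, Subgroup.map_map, Subgroup.map_map, Subgroup.map_map]
    show _ = Yr (orbR.getD (labT.getD j 0) 0)
    convert Subgroup.map_id _ using 2
    refine MonoidHom.ext fun x => ?_
    show θ⁻¹ (d⁻¹ * (d * θ x * d⁻¹) * d⁻¹⁻¹) = x
    rw [show d⁻¹ * (d * θ x * d⁻¹) * d⁻¹⁻¹ = θ x by group]
    exact MulEquiv.symm_apply_apply θ x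

end CfsgLib.Classical.O8Three
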