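import Mathlib

/-!
Square matrices of size eight over the field of three elements, packed into a pair of natural numbers.

Column `a`, row `i` is the bit `8 a + i`: set in the first number for the entry `1`, in the second for `2`.
Right multiplication by an elementary matrix is a few bit operations.
-/

set_option autoImplicit false

namespace CfsgLib.Classical.O8Three

/-- A packed matrix. -/
abbrev PM : Type := ℕ × ℕ

/-- The bits of `x` outside `y`. -/
def andn (x y : ℕ) : ℕ := Nat.xor x (Nat.land x y)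

/-- The sum of two packed matrices. -/
def add3 (a b : PM) : PM :=
  (Nat.lor (Nat.lor (andn a.1 (Nat.lor b.1 b.2)) (andn b.1 (Nat.lor a.1 a.2))) (Nat.land a.2 b.2),
    Nat.lor (Nat.lor (andn a.2 (Nat.lor b.1 b.2)) (andn b.2 (Nat.lor a.1 a.2))) (Nat.land a.1 b.1))

/-- Column `a` moved to column `b`. -/
def col (x a b : ℕ) : ℕ := Nat.shiftLeft (Nat.land (Nat.shiftRight x (8 * a)) 255) (8 * b)

/-- Column `a`, or its negative, added to column `b`. -/
def colAdd (M : PM) (o : ℕ × ℕ × Bool) : PM :=
  add3 M (bif o.2.2 then (col M.2 o.1 o.2.1, col M.1 o.1 o.2.1) else (col M.1 o.1 o.2.1, col M.2 o.1 o.2.1))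

/-- The entry of two bits. -/
def val3 (p n : Bool) : ZMod 3 := bif p then 1 else bif n then 2 else 0

/-- The position of a coordinate. -/
def pos : Fin 4 ⊕ Fin 4 → ℕ := Sum.elim (fun i => i.val) (fun i => i.val + 4)

/-- The coordinate at a position. -/
def unpos (a : ℕ) : Fin 4 ⊕ Fin 4 := if a < 4 then Sum.inl (Fin.ofNat 4 a) else Sum.inr (Fin.ofNat 4 a)

theorem pos_lt (i : Fin 4 ⊕ Fin 4) : pos i < 8 := by
  rcases i with i | i <;> simp [pos] <;> omega

theorem unpos_pos : ∀ i, unpos (pos i) = i := by decide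

theorem pos_unpos {a : ℕ} (h : a < 8) : pos (unpos a) = a := by
  interval_cases a <;> rfl

/-- The bit of an entry. -/
def bitAt (i j : Fin 4 ⊕ Fin 4) : ℕ := 8 * pos j + pos i

/-- The matrix. -/
def dec (M : PM) : Matrix (Fin 4 ⊕ Fin 4) (Fin 4 ⊕ Fin 4) (ZMod 3) :=
  Matrix.of fun i j => val3 (M.1.testBit (bitAt i j)) (M.2.testBit (bitAt i j))

/-- No bit is set twice. -/
def Valid (M : PM) : Prop := ∀ k, M.1.testBit k = true → M.2.testBit k = false

theorem testBit_andn (x y k : ℕ) : (andn x y).testBit k = (x.testBit k && !(y.testBit k)) := by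
  show (x ^^^ (x &&& y)).testBit k = _
  rw [Nat.testBit_xor, Nat.testBit_and]
  cases x.testBit k <;> cases y.testBit k <;> rfl

theorem testBit_col (x a b k : ℕ) :
    (col x a b).testBit k = (decide (8 * b ≤ k ∧ k < 8 * b + 8) && x.testBit (8 * a + (k - 8 * b))) := by
  show (((x >>> (8 * a)) &&& 255) <<< (8 * b)).testBit k = _
  rw [Nat.testBit_shiftLeft, Nat.testBit_and, Nat.testBit_shiftRight, show (255 : ℕ) = 2 ^ 8 - 1 by norm_num,
    Nat.testBit_two_pow_sub_one]
  by_cases h1 : 8 * b ≤ k
  · by_cases h2 : k < 8 * b + 8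
    · simp [h1, h2, show k - 8 * b < 8 by omega]
    · simp [h1, h2, show ¬ k - 8 * b < 8 by omega]
  · simp [h1]

theorem add3_bit (a b : PM) (k : ℕ) (ha : a.1.testBit k = true → a.2.testBit k = false)
    (hb : b.1.testBit k = true → b.2.testBit k = false) :
    ((add3 a b).1.testBit k = true → (add3 a b).2.testBit k = false) ∧
      val3 ((add3 a b).1.testBit k) ((add3 a b).2.testBit k) =
        val3 (a.1.testBit k) (a.2.testBit k) + val3 (b.1.testBit k) (b.2.testBit k) := by
  have e1 : (add3 a b).1.testBit k =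
      (((a.1.testBit k && !(b.1.testBit k || b.2.testBit k)) || (b.1.testBit k && !(a.1.testBit k || a.2.testBit k))) ||
        (a.2.testBit k && b.2.testBit k)) := by
    show (((andn a.1 (b.1 ||| b.2)) ||| (andn b.1 (a.1 ||| a.2))) ||| (a.2 &&& b.2)).testBit k = _
    simp [Nat.testBit_or, Nat.testBit_and, testBit_andn]
  have e2 : (add3 a b).2.testBit k =
      (((a.2.testBit k && !(b.1.testBit k || b.2.testBit k)) || (b.2.testBit k && !(a.1.testBit k || a.2.testBit k))) ||
        (a.1.testBit k && b.1.testBit k)) := by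
    show (((andn a.2 (b.1 ||| b.2)) ||| (andn b.2 (a.1 ||| a.2))) ||| (a.1 &&& b.1)).testBit k = _
    simp [Nat.testBit_or, Nat.testBit_and, testBit_andn]
  rw [e1, e2]
  revert ha hb
  generalize a.1.testBit k = p
  generalize a.2.testBit k = q
  generalize b.1.testBit k = r
  generalize b.2.testBit k = s
  revert p q r s
  decide

theorem colAdd_bit (M : PM) (hM : Valid M) (o : ℕ × ℕ × Bool) (k : ℕ) :
    ((colAdd M o).1.testBit k = true → (colAdd M o).2.testBit k = false) ∧
      val3 ((colAdd M o).1.testBit k) ((colAdd M o).2.testBit k) =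
        val3 (M.1.testBit k) (M.2.testBit k) +
          if 8 * o.2.1 ≤ k ∧ k < 8 * o.2.1 + 8 then
            (bif o.2.2 then 2 else 1) * val3 (M.1.testBit (8 * o.1 + (k - 8 * o.2.1)))
              (M.2.testBit (8 * o.1 + (k - 8 * o.2.1))) else 0 := by
  obtain ⟨a, b, neg⟩ := o
  have hm := hM (8 * a + (k - 8 * b))
  have key : ∀ c : PM, (c.1.testBit k = true → c.2.testBit k = false) →
      ((add3 M c).1.testBit k = true → (add3 M c).2.testBit k = false) ∧
      val3 ((add3 M c).1.testBit k) ((add3 M c).2.testBit k) =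
        val3 (M.1.testBit k) (M.2.testBit k) + val3 (c.1.testBit k) (c.2.testBit k) :=
    fun c hc => add3_bit M c k (hM k) hc
  cases neg
  · obtain ⟨h1, h2⟩ := key (col M.1 a b, col M.2 a b) (by
      rw [testBit_col, testBit_col]
      revert hm
      cases decide (8 * b ≤ k ∧ k < 8 * b + 8) <;> simp)
    refine ⟨h1, h2.trans ?_⟩
    rw [testBit_col, testBit_col]
    by_cases hr : 8 * b ≤ k ∧ k < 8 * b + 8 <;> simp [hr, val3]
  · obtain ⟨h1, h2⟩ := key (col M.2 a b, col M.1 a b) (by
      rw [testBit_col, testBit_col]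
      revert hm
      cases decide (8 * b ≤ k ∧ k < 8 * b + 8) <;> simp
      cases M.1.testBit (8 * a + (k - 8 * b)) <;> simp)
    refine ⟨h1, h2.trans ?_⟩
    rw [testBit_col, testBit_col]
    by_cases hr : 8 * b ≤ k ∧ k < 8 * b + 8
    · have key2 : ∀ p q : Bool, (p = true → q = false) → val3 q p = 2 * val3 p q := by decide
      simp [hr, key2 _ _ hm]
    · simp [hr, val3]

theorem colAdd_valid (M : PM) (hM : Valid M) (o : ℕ × ℕ × Bool) : Valid (colAdd M o) :=
  fun k => (colAdd_bit M hM o k).1

/-- The elementary matrix of an operation. -/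
def opM (o : ℕ × ℕ × Bool) : Matrix (Fin 4 ⊕ Fin 4) (Fin 4 ⊕ Fin 4) (ZMod 3) :=
  1 + Matrix.single (unpos o.1) (unpos o.2.1) (bif o.2.2 then 2 else 1)

theorem dec_colAdd (M : PM) (hM : Valid M) (o : ℕ × ℕ × Bool) (ha : o.1 < 8) (hb : o.2.1 < 8) :
    dec (colAdd M o) = dec M * opM o := by
  ext i j
  rw [opM, mul_add, mul_one, Matrix.add_apply]
  show val3 _ _ = _
  rw [(colAdd_bit M hM o (bitAt i j)).2]
  congr 1
  have hi := pos_lt i
  have hj := pos_lt j
  by_cases hjb : j = unpos o.2.1
  · subst hjb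
    have hp := pos_unpos hb
    rw [Matrix.mul_single_apply_same, if_pos (by simp only [bitAt, hp]; omega), mul_comm]
    congr 1
    show val3 _ _ = val3 _ _
    have e : 8 * o.1 + (bitAt i (unpos o.2.1) - 8 * o.2.1) = bitAt i (unpos o.1) := by
      simp only [bitAt, hp, pos_unpos ha]
      omega
    rw [e]
  · rw [Matrix.mul_single_apply_of_ne (hbj := hjb), if_neg]
    intro h
    apply hjb
    have : pos j = o.2.1 := by simp only [bitAt] at h; omega
    rw [← this, unpos_pos]

end CfsgLib.Classical.O8Three
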